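import Cfsg.Agent.H15.PSubTwo.Structure

/-!
Degree `p - 2` (helper15): a group with a non-normal Sylow subgroup of order `p` and a faithful
irreducible character of degree `p - 2` is `SL(2, p - 1)` times its centre.
-/

set_option autoImplicit false
set_option linter.style.haveILetI false
set_option linter.unusedSectionVars false

open Cfsg
open scoped ComplexConjugate MatrixGroups

namespace H15.PSubTwo

open H85.D1 H15.HalfDeg

universe u

variable {A : Type u} [Group A] {p : ℕ} [hp : Fact p.Prime]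

/-- A representation that is irreducible stays irreducible on a subgroup supplementing the
centre. -/
theorem isIrreducible_res [Finite A] {n : ℕ} (ρ : Representation ℂ A (Fin n → ℂ)) (hρ : ρ.IsIrreducible)
    (L : Subgroup A) (hGL : ∀ g : A, ∃ l : L, (l : A)⁻¹ * g ∈ Subgroup.center A) :
    Representation.IsIrreducible (ρ.comp L.subtype : Representation ℂ L (Fin n → ℂ)) := by
  haveI := hρ
  haveI : Fintype A := Fintype.ofFinite A
  have hscal : ∀ z ∈ Subgroup.center A, ∃ c : ℂ, ρ z = c • (1 : Module.End ℂ (Fin n → ℂ)) := by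
    intro z hz
    obtain ⟨c, hc⟩ := H12.exists_scalar_of_commute ρ (ρ z) fun g => by
      rw [← map_mul, ← map_mul, Subgroup.mem_center_iff.1 hz g]
    exact ⟨c, hc⟩
  let up : Subrepresentation (ρ.comp L.subtype : Representation ℂ L (Fin n → ℂ)) →
      Subrepresentation ρ := fun a =>
    ⟨a.toSubmodule, fun g v hv => by
      obtain ⟨l, hl⟩ := hGL g
      obtain ⟨c, hc⟩ := hscal _ hl
      rw [show g = (l : A) * ((l : A)⁻¹ * g) by rw [mul_inv_cancel_left], map_mul,
        Module.End.mul_apply, hc, LinearMap.smul_apply, Module.End.one_apply, map_smul]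
      exact a.toSubmodule.smul_mem c (a.apply_mem_toSubmodule l hv)⟩
  have hne : (⊥ : Submodule ℂ (Fin n → ℂ)) ≠ ⊤ := fun he => by
    obtain ⟨x, y, hxy⟩ := (inferInstance : Nontrivial (Subrepresentation ρ))
    haveI : Subsingleton (Submodule ℂ (Fin n → ℂ)) := subsingleton_of_bot_eq_top he
    exact hxy (Subrepresentation.toSubmodule_injective (Subsingleton.elim _ _))
  haveI : Nontrivial (Subrepresentation (ρ.comp L.subtype : Representation ℂ L (Fin n → ℂ))) :=
    ⟨⊥, ⊤, fun he => hne (congrArg Subrepresentation.toSubmodule he)⟩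
  refine IsSimpleOrder.mk fun a => ?_
  rcases eq_bot_or_eq_top (up a) with h | h
  · refine Or.inl (Subrepresentation.toSubmodule_injective ?_)
    exact (congrArg Subrepresentation.toSubmodule h :)
  · refine Or.inr (Subrepresentation.toSubmodule_injective ?_)
    exact (congrArg Subrepresentation.toSubmodule h :)

variable [Fintype A] {P : Sylow p A} {u a : A} {H : Subgroup A} [Fintype H]
  {D : Setting P u a H} [Fintype (D.aut (H12.oneIrr H))]

/-- Elements normalising `P` centralise it or invert it. -/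
theorem conj_u_cases (hc : Nat.card (D.aut (H12.oneIrr H)) = 2) {n : A}
    (hn : n ∈ Subgroup.normalizer ((P : Subgroup A) : Set A)) :
    n * u * n⁻¹ = u ∨ n * u * n⁻¹ = u⁻¹ := by
  obtain ⟨α, hα1, hinv, -⟩ := Ctx.exists_inv_aut (D := D) hc
  let β : D.aut (H12.oneIrr H) := ⟨(P : Subgroup A).normalizerMonoidHom ⟨n, hn⟩,
    D.mem_aut_iff.2 ⟨n, by rw [D.stab_one]; exact hn, fun x => rfl⟩⟩
  have hval : ((β : MulAut (P : Subgroup A)) ⟨u, D.u_mem⟩ : A) = n * u * n⁻¹ := rfl
  obtain ⟨y, -, hy⟩ := (Nat.card_eq_two_iff' (1 : D.aut (H12.oneIrr H))).1 hc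
  by_cases hβ : β = 1
  · left
    rw [← hval, hβ, Subgroup.coe_one, MulAut.one_apply]
  · right
    rw [← hval, (hy β hβ).trans (hy α hα1).symm, hinv, Subgroup.coe_inv]

end H15.PSubTwo

namespace H15.PSubTwo

open H85.D1 H15.HalfDeg

universe u

/-- The theorem. -/
theorem main {A : Type u} [Group A] [Finite A] {p : ℕ} [hp : Fact p.Prime] (hp5 : 5 < p)
    (P : Sylow p A) (hP : Nat.card P = p) (hnn : ¬ (P : Subgroup A).Normal) (ζ : A → ℂ)
    (hζ : IsIrrCharacter A ζ) (hfaith : ∀ g : A, ζ g = ζ 1 → g = 1)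
    (hdeg : H12.degree ζ = p - 2) :
    ∃ (m : ℕ) (F : Type) (_ : Field F) (_ : Fintype F), p = 2 ^ m + 1 ∧ Fintype.card F = 2 ^ m ∧
      Nonempty (A ≃* SL(2, F) × Subgroup.center A) := by
  classical
  letI : Fintype A := Fintype.ofFinite A
  have hp' : p.Prime := hp.out
  obtain ⟨M, hM⟩ := H22.exists_isPModular p hp'
  haveI : M.IsPrime := hM.2.1.isPrime
  obtain ⟨u, a, H, D⟩ := exists_setting hP
  haveI : Fintype H := Fintype.ofFinite _
  haveI : Fintype (D.aut (H12.oneIrr H)) := Fintype.ofFinite _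
  obtain ⟨hctx, -⟩ := reduce D hM hp5 hnn ⟨ζ, hζ⟩ hdeg hfaith
  obtain ⟨n, ρ, hρi, hρ⟩ := id hζ
  have hn : n = p - 2 := by
    rw [← hdeg, ← hρ, H12.degree_character]; simp
  set L := Subgroup.closure {g : A | g ^ p = 1} with hL
  haveI hLn : L.Normal := by
    refine Subgroup.normalizer_eq_top_iff.1 (top_le_iff.1 fun g _ => ?_)
    rw [Subgroup.mem_normalizer_iff_map_conj_eq, hL, MonoidHom.map_closure]
    congr 1
    ext y
    constructor
    · rintro ⟨z, hz, rfl⟩
      show (MulAut.conj g z) ^ p = 1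
      rw [← map_pow, show z ^ p = 1 from hz, map_one]
    · intro hy
      refine ⟨g⁻¹ * y * g, ?_, by simp [mul_assoc]⟩
      show (g⁻¹ * y * g) ^ p = 1
      rw [show g⁻¹ * y * g = g⁻¹ * y * (g⁻¹)⁻¹ by rw [inv_inv], conj_pow,
        show y ^ p = 1 from hy, mul_one, mul_inv_cancel]
  have hmemL : ∀ g : A, g ^ p = 1 → g ∈ L := fun g hg => Subgroup.subset_closure hg
  have hpowP : ∀ x ∈ (P : Subgroup A), x ^ p = 1 := fun x hx => pow_p_eq_one D hx
  have hPL : (P : Subgroup A) ≤ L := fun x hx => hmemL x (hpowP x hx)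
  set P' := P.subtype hPL with hP'
  have hP'c : Nat.card P' = p := by
    exact (Nat.card_congr (Subgroup.subgroupOfEquivOfLe hPL).toEquiv).trans hP
  obtain ⟨u', a', H', D'⟩ := exists_setting hP'c
  haveI : Fintype H' := Fintype.ofFinite _
  haveI : Fintype (D'.aut (H12.oneIrr H')) := Fintype.ofFinite _
  have hgen : Subgroup.closure {g : L | g ^ p = 1} = ⊤ := by
    refine Eq.trans (congrArg _ ?_) (Subgroup.closure_closure_coe_preimage (k := {g : A | g ^ p = 1}))
    ext g
    simp only [Set.mem_setOf_eq, Set.mem_preimage, ← SubmonoidClass.coe_pow]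
    exact ⟨fun h => by rw [h]; rfl, fun h => Subtype.ext h⟩
  have hP'n : ¬ (P' : Subgroup L).Normal := by
    intro hN
    refine hnn ⟨fun x hx g => ?_⟩
    set y := g * x * g⁻¹ with hy
    have hyp : y ^ p = 1 := by rw [hy, conj_pow, hpowP x hx, mul_one, mul_inv_cancel]
    obtain ⟨k, -, hk⟩ := (Nat.dvd_prime_pow hp').1
      ((pow_one p).symm ▸ orderOf_dvd_of_pow_eq_one hyp : orderOf y ∣ p ^ 1)
    obtain ⟨z, hz, hconj⟩ := H20.FreeSylow.exists_isConj_mem (P := P')
      (y := (⟨y, hmemL y hyp⟩ : L)) ⟨k, by rw [Subgroup.orderOf_mk, hk]⟩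
    obtain ⟨t, ht⟩ := isConj_iff.1 hconj.symm
    have h1 := hN.conj_mem z hz t
    rw [ht] at h1
    exact h1
  have hne' : Nat.card (D'.aut (H12.oneIrr H')) ≠ 1 := by
    intro hf
    have hζc : IsCharacter A ζ := H12.isCharacter_of_isIrrCharacter hζ
    obtain ⟨m, hm⟩ := H12.IsCharacter.exists_mult (H12.IsCharacter.res hζc L)
    have hmy : ∀ y : L, ζ y = ∑ ψ : IrrCharacter L, (m ψ : ℂ) * (ψ : L → ℂ) y := fun y => by
      have := congrFun hm y
      simpa using this
    have hdegL : p - 2 = ∑ ψ : IrrCharacter L, m ψ * H12.degree (ψ : L → ℂ) := by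
      have h := hmy 1
      rw [OneMemClass.coe_one, H12.IsCharacter.apply_one_eq_degree hζc, hdeg] at h
      simp only [H12.irr_apply_one] at h
      exact_mod_cast h
    refine hP'n ⟨fun x hx g => ?_⟩
    have key : ∀ ψ : IrrCharacter L, m ψ ≠ 0 →
        (ψ : L → ℂ) (x * g * (g * x)⁻¹) = (ψ : L → ℂ) 1 := by
      intro ψ hψ
      have hle : H12.degree (ψ : L → ℂ) ≤ p - 2 := by
        rw [hdegL]
        exact (Nat.le_mul_of_pos_left _ (Nat.pos_of_ne_zero hψ)).trans
          (Finset.single_le_sum (f := fun ψ : IrrCharacter L => m ψ * H12.degree (ψ : L → ℂ))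
            (fun i _ => Nat.zero_le _) (Finset.mem_univ ψ))
      have hnorm := norm_eq_of_trivial_aut D' hM hf ψ (by omega) hx
      obtain ⟨k, σ, hσ, he'⟩ := ψ.2
      rw [← he'] at hnorm ⊢
      rw [H12.degree_character] at hnorm
      obtain ⟨ω, hω⟩ := H12.exists_scalar_of_norm_eq σ x hnorm
      have h1 : σ (x * g) = σ (g * x) := by
        rw [map_mul, map_mul, hω]
        ext v
        simp
      show LinearMap.trace ℂ _ (σ (x * g * (g * x)⁻¹)) = LinearMap.trace ℂ _ (σ 1)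
      rw [map_mul, h1, ← map_mul, mul_inv_cancel]
    have h1 : ζ ((x * g * (g * x)⁻¹ : L) : A) = ζ 1 := by
      rw [show ζ 1 = ζ ((1 : L) : A) from rfl, hmy, hmy]
      refine Finset.sum_congr rfl fun ψ _ => ?_
      rcases Nat.eq_zero_or_pos (m ψ) with h | h
      · rw [h]; simp
      · rw [key ψ h.ne']
    have h2 : x * g = g * x := mul_inv_eq_one.1 (Subtype.ext (hfaith _ h1))
    rw [← h2, mul_inv_cancel_right]
    exact hx
  -- an element of `L` inverting `P`
  obtain ⟨t, ht⟩ : ∃ t : L, (t : A) * u * (t : A)⁻¹ = u⁻¹ := by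
    haveI : Nontrivial (D'.aut (H12.oneIrr H')) := Finite.one_lt_card_iff_nontrivial.1 (by
      have := Nat.card_pos (α := D'.aut (H12.oneIrr H')); omega)
    obtain ⟨α, hα⟩ := exists_ne (1 : D'.aut (H12.oneIrr H'))
    obtain ⟨t, htN, ht⟩ := D'.mem_aut_iff.1 α.2
    set u₁ : (P' : Subgroup L) := ⟨⟨u, hPL D.u_mem⟩, D.u_mem⟩ with hu₁
    have hu₁1 : u₁ ≠ 1 := fun h' => D.u_ne_one
      (congrArg (fun w : ↥(P' : Subgroup L) => ((w : L) : A)) h')
    have hmem : (t : A) * u * (t : A)⁻¹ ∈ (P : Subgroup A) := by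
      have h1 := ((α : MulAut (P' : Subgroup L)) u₁).2
      rw [ht u₁] at h1
      exact h1
    have hN : (t : A) ∈ Subgroup.normalizer ((P : Subgroup A) : Set A) :=
      D.mem_normalizer D.u_mem D.u_ne_one hmem rfl
    rcases conj_u_cases (D := D) hctx.card_aut hN with h1 | h1
    · exfalso
      refine hα (Subtype.ext (MulEquiv.ext fun x => ?_))
      obtain ⟨i, rfl⟩ := zpowers_top hP'c hu₁1 x
      rw [map_zpow, Subgroup.coe_one, MulAut.one_apply]
      congr 1
      refine Subtype.ext (Subtype.ext ?_)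
      rw [ht u₁]
      exact h1
    · exact ⟨t, h1⟩
  -- the group is the product of `L` and its centre
  have hGL : ∀ g : A, ∃ l : L, (l : A)⁻¹ * g ∈ Subgroup.center A := by
    intro g
    set y := g * u * g⁻¹ with hy
    have hyp : y ^ p = 1 := by rw [hy, conj_pow, hpowP u D.u_mem, mul_one, mul_inv_cancel]
    obtain ⟨k, -, hk⟩ := (Nat.dvd_prime_pow hp').1
      ((pow_one p).symm ▸ orderOf_dvd_of_pow_eq_one hyp : orderOf y ∣ p ^ 1)
    obtain ⟨z, hz, hconj⟩ := H20.FreeSylow.exists_isConj_mem (P := P')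
      (y := (⟨y, hmemL y hyp⟩ : L)) ⟨k, by rw [Subgroup.orderOf_mk, hk]⟩
    obtain ⟨l, hl⟩ := isConj_iff.1 hconj
    have hlA : (l : A) * y * (l : A)⁻¹ = (z : A) := congrArg Subtype.val hl
    set n₀ := (l : A) * g with hn₀
    have hn0u : n₀ * u * n₀⁻¹ = (z : A) := by rw [← hlA, hy, hn₀]; group
    have hN : n₀ ∈ Subgroup.normalizer ((P : Subgroup A) : Set A) :=
      D.mem_normalizer D.u_mem D.u_ne_one hz hn0u
    obtain ⟨l₁, hl₁⟩ : ∃ l₁ : L, Commute ((l₁ : A) * n₀) u := by
      rcases conj_u_cases (D := D) hctx.card_aut hN with h1 | h1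
      · refine ⟨1, ?_⟩
        rw [OneMemClass.coe_one, one_mul]
        exact mul_inv_eq_iff_eq_mul.1 h1
      · refine ⟨t, mul_inv_eq_iff_eq_mul.1 ?_⟩
        rw [mul_inv_rev, show (t : A) * n₀ * u * (n₀⁻¹ * (t : A)⁻¹) =
          (t : A) * (n₀ * u * n₀⁻¹) * (t : A)⁻¹ by group, h1, ← conj_inv, ht, inv_inv]
    obtain ⟨x, hx, k', hk', hxk⟩ := D.exists_mul
      (D.centralizer_eq D.u_mem D.u_ne_one hl₁)
    refine ⟨(l₁ * l)⁻¹ * ⟨x, hPL hx⟩, ?_⟩
    have he : (((l₁ * l)⁻¹ * ⟨x, hPL hx⟩ : L) : A)⁻¹ * g = k' := by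
      push_cast
      rw [hn₀] at hxk
      rw [mul_inv_rev, inv_inv, mul_assoc, show (l₁ : A) * (l : A) * g = (l₁ : A) * ((l : A) * g) from
        mul_assoc _ _ _, hxk, inv_mul_cancel_left]
    rw [he]
    exact hctx.center_eq ▸ hk'
  -- the character of `L`
  have hirr : IsIrrCharacter L (fun l : L => ζ l) := by
    refine ⟨n, (ρ.comp L.subtype : Representation ℂ L (Fin n → ℂ)),
      isIrreducible_res ρ hρi L hGL, funext fun l => ?_⟩
    show LinearMap.trace ℂ _ (ρ (l : A)) = _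
    rw [← hρ]
    rfl
  set χ : IrrCharacter L := ⟨fun l => ζ l, hirr⟩ with hχ
  have hdegχ : H12.degree (χ : L → ℂ) = p - 2 := by
    have h1 : ((H12.degree (χ : L → ℂ) : ℕ) : ℂ) = ((p - 2 : ℕ) : ℂ) := by
      rw [← H12.irr_apply_one χ, ← hdeg]
      show ζ ((1 : L) : A) = _
      rw [OneMemClass.coe_one, H12.IsCharacter.apply_one_eq_degree
        (H12.isCharacter_of_isIrrCharacter hζ)]
    exact_mod_cast h1
  have hfχ : ∀ l : L, (χ : L → ℂ) l = (χ : L → ℂ) 1 → l = 1 := fun l hl =>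
    Subtype.ext (hfaith _ (hl.trans (by show ζ ((1 : L) : A) = _; rw [OneMemClass.coe_one])))
  obtain ⟨hctx', θ, ψ, hgood⟩ := reduce D' hM hp5 hP'n χ hdegχ hfχ
  have hperf : Perf D' := ⟨hctx', hP'n, fun l => by
    obtain ⟨α, hα, hinv, -⟩ := Ctx.exists_inv_aut (D := D') hctx'.card_aut
    set lP := l.comp (P' : Subgroup L).subtype with hlP
    have hinvl : ∀ y t : L, l (t * y * t⁻¹) = l y := fun y t => by
      rw [map_mul, map_mul, map_inv, mul_comm (l t), mul_inv_cancel_right]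
    have hlP1 : lP = 1 := by
      by_contra hne
      refine hα (twist_injective D'.hP hne (MonoidHom.ext fun y => ?_))
      obtain ⟨t, -, ht⟩ := D'.mem_aut_iff.1 α.2
      show l (((α : MulAut (P' : Subgroup L)) y : (P' : Subgroup L)) : L) = l (y : L)
      rw [ht, hinvl]
    refine MonoidHom.eq_of_eqOn_dense hgen fun y hy => ?_
    obtain ⟨k, -, hk⟩ := (Nat.dvd_prime_pow hp.out).1
      ((pow_one p).symm ▸ orderOf_dvd_of_pow_eq_one hy : orderOf y ∣ p ^ 1)
    obtain ⟨z, hz, hconj⟩ := H20.FreeSylow.exists_isConj_mem (P := P') (y := y) ⟨k, hk⟩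
    obtain ⟨t, ht⟩ := isConj_iff.1 hconj
    have h1 : l z = 1 := DFunLike.congr_fun hlP1 ⟨z, hz⟩
    rw [← ht, hinvl] at h1
    exact h1⟩
  obtain ⟨m, F, iF, iFin, hpm, hFm, hcenter, ⟨e⟩⟩ := exists_iso_SL2 hperf hgood hM
  refine ⟨m, F, iF, iFin, hpm, hFm, ?_⟩
  let μ : L × Subgroup.center A →* A := MonoidHom.noncommCoprod L.subtype
    (Subgroup.center A).subtype fun l z => Subgroup.mem_center_iff.1 z.2 (l : A)
  have hμ : Function.Bijective μ := by
    refine ⟨(injective_iff_map_eq_one μ).2 fun w hw => ?_, fun g => ?_⟩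
    · obtain ⟨l, z⟩ := w
      have hw' : (l : A) * z = 1 := hw
      have hlc : l ∈ Subgroup.center L := Subgroup.mem_center_iff.2 fun l' => Subtype.ext (by
        push_cast
        rw [eq_inv_of_mul_eq_one_left hw']
        exact Subgroup.mem_center_iff.1 (inv_mem z.2) (l' : A))
      rw [hcenter, Subgroup.mem_bot] at hlc
      rw [hlc, OneMemClass.coe_one, one_mul] at hw'
      exact Prod.ext hlc (Subtype.ext hw')
    · obtain ⟨l, hl⟩ := hGL g
      exact ⟨(l, ⟨_, hl⟩), by show (l : A) * ((l : A)⁻¹ * g) = g; rw [mul_inv_cancel_left]⟩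
  exact ⟨(MulEquiv.ofBijective μ hμ).symm.trans (MulEquiv.prodCongr e (MulEquiv.refl _))⟩

end H15.PSubTwo
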