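import Cfsg.Agent.H15.HalfDeg.Periods

/-!
Degree `p - 2` (helper15): the block reduction for a faithful irreducible character of degree
`p - 2` of a group with Sylow subgroups of order `p`.
-/

set_option autoImplicit false
set_option linter.style.haveILetI false
set_option linter.unusedSectionVars false

open Cfsg
open scoped ComplexConjugate

namespace H15.PSubTwo

open H85.D1 H15.HalfDeg

universe u

/-- The sum of a linear character and its inverse. -/
noncomputable def per {A : Type*} [Group A] (ξ : A →* ℂˣ) (x : A) : ℂ :=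
  (ξ x : ℂ) + (((ξ x)⁻¹ : ℂˣ) : ℂ)

theorem per_mul {A : Type*} [Group A] (ξ η : A →* ℂˣ) (x : A) :
    per ξ x * per η x = per (ξ * η) x + per (ξ * η⁻¹) x := by
  simp only [per, MonoidHom.mul_apply, MonoidHom.inv_apply, mul_inv_rev, inv_inv, Units.val_mul]
  ring

theorem per_inv {A : Type*} [Group A] (ξ : A →* ℂˣ) (x : A) : per ξ x⁻¹ = per ξ x := by
  simp only [per, map_inv, inv_inv]
  ring

theorem conj_per {A : Type*} [Group A] [Finite A] (ξ : A →* ℂˣ) (x : A) :
    conj (per ξ x) = per ξ x := by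
  have h : conj (ξ x : ℂ) = (((ξ x)⁻¹ : ℂˣ) : ℂ) := by
    rw [Units.val_inv_eq_inv_val, Complex.inv_eq_conj]
    refine H12.norm_eq_one_of_pow_eq_one (n := Nat.card A) Nat.card_pos.ne' ?_
    rw [← Units.val_pow_eq_pow_val, ← map_pow, pow_card_eq_one', map_one, Units.val_one]
  rw [per, map_add, h, ← h, Complex.conj_conj, h, add_comm]

theorem sum_per {A : Type*} [Group A] [Fintype A] [DecidableEq A] {ξ : A →* ℂˣ} (hξ : ξ ≠ 1) :
    ∑ x ∈ Finset.univ.erase (1 : A), per ξ x = -2 := by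
  simp only [per, Finset.sum_add_distrib]
  rw [sum_erase_one_lin hξ, show (fun x => (((ξ x)⁻¹ : ℂˣ) : ℂ)) = fun x => ((ξ⁻¹) x : ℂ) from
    funext fun x => by rw [MonoidHom.inv_apply], sum_erase_one_lin fun h => hξ (MonoidHom.ext fun x => inv_eq_one.1 (DFunLike.congr_fun h x))]
  ring

theorem sum_per_one {A : Type*} [Group A] [Fintype A] [DecidableEq A] :
    ∑ x ∈ Finset.univ.erase (1 : A), per (1 : A →* ℂˣ) x = 2 * ((Nat.card A : ℂ) - 1) := by
  simp only [per, MonoidHom.one_apply, inv_one, Units.val_one, Finset.sum_const,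
    Finset.card_erase_of_mem (Finset.mem_univ _), Finset.card_univ, ← Nat.card_eq_fintype_card,
    nsmul_eq_mul]
  rw [Nat.cast_sub (Nat.one_le_iff_ne_zero.2 Nat.card_pos.ne'), Nat.cast_one]
  ring

/-- Multiplicities of the linear characters in a character of a group of prime order with
prescribed values away from `1`. -/
theorem mult_facts {A : Type*} [Group A] [Fintype A] {p : ℕ} [Fact p.Prime]
    (hA : Nat.card A = p) {F : A → ℂ} (hF : IsCharacter A F) {n : ℕ} (hn : F 1 = (n : ℂ))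
    {ι : Type*} [Fintype ι] (ξ : ι → A →* ℂˣ) (hξ : ∀ i, ξ i ≠ 1) (c : ℤ)
    (hval : ∀ x : A, x ≠ 1 → F x = (c : ℂ) * ∑ i, (ξ i x : ℂ)) :
    ∃ m : ℕ, (n : ℤ) - c * (Fintype.card ι : ℤ) = (p : ℤ) * m ∧
      (p - Fintype.card ι) * m ≤ n := by
  classical
  haveI : Finite (A →* ℂˣ) := H20.finite_dual
  haveI : Fintype (A →* ℂˣ) := Fintype.ofFinite _
  have hc := commOf (A := A) hA
  have hmult : ∀ φ : A →* ℂˣ, ∃ m : ℕ, ∑ x : A, F x * conj (φ x : ℂ) = (p : ℂ) * m := by
    intro φ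
    obtain ⟨m, hm⟩ := H12.IsCharacter.classInner_nat hF (H12.isCharacter_monoidHom φ)
    rw [H12.classInner_def, inv_mul_eq_iff_eq_mul₀ H12.card_ne_zero', hA] at hm
    exact ⟨m, hm⟩
  choose m hm using hmult
  have hout : ∀ φ : A →* ℂˣ, (∀ i, ξ i ≠ φ) →
      (n : ℤ) - c * (Fintype.card ι : ℤ) = (p : ℤ) * m φ := by
    intro φ hφ
    have h := hm φ
    rw [← Finset.add_sum_erase _ _ (Finset.mem_univ (1 : A)),
      Finset.sum_congr rfl fun x hx => by rw [hval x (Finset.ne_of_mem_erase hx), mul_assoc,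
        Finset.sum_mul],
      ← Finset.mul_sum, Finset.sum_comm,
      Finset.sum_congr rfl fun i _ => sum_erase_one_mul_conj (hφ i)] at h
    simp only [hn, map_one, Units.val_one, mul_one, Finset.sum_const, Finset.card_univ,
      nsmul_eq_mul] at h
    have : (((n : ℤ) - c * (Fintype.card ι : ℤ) : ℤ) : ℂ) = (((p : ℤ) * m φ : ℤ) : ℂ) := by
      push_cast
      linear_combination h
    exact_mod_cast this
  have hdual : Fintype.card (A →* ℂˣ) = p :=
    (by exact_mod_cast H20.card_dual hc : Fintype.card (A →* ℂˣ) = Nat.card A).trans hA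
  have hsum : ∑ φ, m φ = n := by
    have h : ∑ φ : A →* ℂˣ, ∑ x : A, F x * conj (φ x : ℂ) = (p : ℂ) * n := by
      rw [Finset.sum_comm, Finset.sum_eq_single (1 : A)]
      · simp only [hn, map_one, Units.val_one, mul_one, Finset.sum_const, Finset.card_univ,
          nsmul_eq_mul]
        rw [hdual]
      · intro x _ hx
        have h0 := H20.sum_dual_conj_mul hc x 1
        simp only [map_one, Units.val_one, mul_one, if_neg (Ne.symm hx)] at h0
        rw [← Finset.mul_sum, h0, mul_zero]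
      · simp
    simp only [hm, ← Finset.mul_sum] at h
    exact_mod_cast mul_left_cancel₀ (Nat.cast_ne_zero.2 (Fact.out : p.Prime).ne_zero) h
  refine ⟨m 1, hout 1 hξ, ?_⟩
  set T : Finset (A →* ℂˣ) := Finset.univ.image ξ with hT
  have hTc : T.card ≤ Fintype.card ι := Finset.card_image_le.trans Finset.card_univ.le
  have hle : Tᶜ.card * m 1 ≤ ∑ φ, m φ := by
    rw [← smul_eq_mul]
    refine (Finset.card_nsmul_le_sum Tᶜ m _ fun φ hφ => ?_).trans
      (Finset.sum_le_sum_of_subset (Finset.subset_univ _))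
    have h2 : ∀ i, ξ i ≠ φ := fun i hi =>
      Finset.mem_compl.1 hφ (Finset.mem_image.2 ⟨i, Finset.mem_univ i, hi⟩)
    have h3 := (hout φ h2).symm.trans (hout 1 hξ)
    have h4 : (m φ : ℤ) = m 1 :=
      mul_left_cancel₀ (Int.natCast_ne_zero.2 (Fact.out : p.Prime).ne_zero) h3
    omega
  rw [hsum, Finset.card_compl, hdual] at hle
  exact (Nat.mul_le_mul_right _ (by omega)).trans hle

variable {G : Type u} [Group G] [Fintype G] {p : ℕ} [hp : Fact p.Prime]
  {P : Sylow p G} {u a : G} {H : Subgroup G} [Fintype H]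

/-- The data shared by the characters of degree `p - 2`. -/
structure Ctx (D : Setting P u a H) [Fintype (D.aut (H12.oneIrr H))] : Prop where
  five_lt : 5 < p
  center_eq : H = Subgroup.center G
  card_aut : Nat.card (D.aut (H12.oneIrr H)) = 2

/-- A faithful irreducible character of degree `p - 2` after the reduction. -/
structure Good (D : Setting P u a H) (χ : IrrCharacter G) (θ : IrrCharacter H)
    (ψ : (P : Subgroup G) →* ℂˣ) : Prop where
  mem_supp : χ ∈ D.supp θ
  degree_eq : H12.degree (χ : G → ℂ) = p - 2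
  faithful : ∀ g : G, (χ : G → ℂ) g = (χ : G → ℂ) 1 → g = 1
  psi_ne : ψ ≠ 1
  val : ∀ x : (P : Subgroup G), x ≠ 1 → (χ : G → ℂ) x = -per ψ x
  shape : ∀ [Fintype (P : Subgroup G)] [Fintype (D.aut θ)]
    (S : Shape p (D.aut θ) (fun (χ : IrrCharacter G) (x : (P : Subgroup G)) => D.col θ χ x)
      (fun (χ : IrrCharacter G) (g : {g : G // ¬ p ∣ orderOf g}) => (χ : G → ℂ) g)),
    χ ∈ S.Y ∧ S.ε = -1

namespace Ctx

variable {D : Setting P u a H} [Fintype (D.aut (H12.oneIrr H))]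

theorem exists_inv_aut (hc : Nat.card (D.aut (H12.oneIrr H)) = 2) :
    ∃ α : D.aut (H12.oneIrr H), α ≠ 1 ∧
      (∀ x : (P : Subgroup G), (α : MulAut (P : Subgroup G)) x = x⁻¹) ∧
      ∀ F : MulAut (P : Subgroup G) → ℂ, ∑ β : D.aut (H12.oneIrr H), F β = F 1 + F α := by
  classical
  haveI : Fintype (P : Subgroup G) := Fintype.ofFinite _
  haveI : Nontrivial (D.aut (H12.oneIrr H)) :=
    Finite.one_lt_card_iff_nontrivial.1 (by rw [hc]; omega)
  obtain ⟨α, hα⟩ := exists_ne (1 : D.aut (H12.oneIrr H))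
  have hα1 : (α : MulAut (P : Subgroup G)) ≠ 1 := fun h => hα (Subtype.ext h)
  have hαα : α * α = 1 := by
    rw [← pow_two, ← hc, pow_card_eq_one']
  refine ⟨α, hα, fun x => ?_, fun F => ?_⟩
  · refine eq_inv_of_mul_eq_one_left (eq_one_of_fixed D.hP hα1 ?_)
    rw [map_mul, ← MulAut.mul_apply, ← Subgroup.coe_mul, hαα, Subgroup.coe_one, MulAut.one_apply,
      commOf D.hP]
  · have huniv : (Finset.univ : Finset (D.aut (H12.oneIrr H))) = {1, α} := by
      refine (Finset.eq_of_subset_of_card_le (Finset.subset_univ _) ?_).symm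
      rw [Finset.card_univ, ← Nat.card_eq_fintype_card, hc, Finset.card_pair hα.symm]
    rw [huniv, Finset.sum_pair hα.symm, Subgroup.coe_one]

theorem sum_aut (hc : Nat.card (D.aut (H12.oneIrr H)) = 2) (ξ : (P : Subgroup G) →* ℂˣ)
    (x : (P : Subgroup G)) :
    ∑ β : D.aut (H12.oneIrr H), (ξ ((β : MulAut (P : Subgroup G)) x) : ℂ) = per ξ x := by
  obtain ⟨α, -, hinv, hsum⟩ := exists_inv_aut hc
  rw [hsum fun β => (ξ (β x) : ℂ), MulAut.one_apply, hinv, map_inv, per]

end Ctx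

variable (D : Setting P u a H)

/-- Constant columns in small degree. -/
theorem norm_eq_of_colX {M : Ideal AlgInt} [M.IsPrime] (hM : IsPModular p M)
    {θ : IrrCharacter H} {χ : IrrCharacter G} (hχ : χ ∈ D.supp θ) {ε : ℤ} (hε : ε = 1 ∨ ε = -1)
    (hcol : ∀ x : (P : Subgroup G), x ≠ 1 → D.col θ χ x = (ε : ℂ))
    (hn : H12.degree (χ : G → ℂ) + 2 ≤ p) {x : G} (hx : x ∈ (P : Subgroup G)) :
    ‖(χ : G → ℂ) x‖ = (H12.degree (χ : G → ℂ) : ℝ) := by
  classical
  haveI : Fintype (P : Subgroup G) := Fintype.ofFinite _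
  set n := H12.degree (χ : G → ℂ) with hndef
  set c := Nat.card (D.orbit θ) * H12.degree (θ : H → ℂ) with hc
  have hc0 : 0 < c := Nat.mul_pos (Nat.card_pos_iff.2 ⟨⟨⟨θ, D.mem_orbit_self θ⟩⟩, inferInstance⟩)
    (H12.irr_degree_pos θ)
  have hval : ∀ y : (P : Subgroup G), y ≠ 1 → (χ : G → ℂ) y = (ε : ℂ) * c := by
    intro y hy
    have hy1 : (y : G) ≠ 1 := fun h => hy (Subtype.ext h)
    have h1 := D.apply_eq_sum_orbit hM hχ y.2 hy1 (1 : H)
    rw [Subgroup.coe_one, mul_one] at h1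
    rw [h1, Finset.sum_congr rfl (g := fun _ => (ε : ℂ) * (H12.degree (θ : H → ℂ) : ℂ)) fun φ hφ => by
      obtain ⟨m, hm, rfl⟩ := Set.mem_toFinset.1 hφ
      obtain ⟨hy', hy1'⟩ := D.conj_mem_P hm y.2 hy1
      rw [D.col_conj θ χ hm, H12.irrCongr_apply, map_one, H12.irr_apply_one,
        hcol ⟨_, hy'⟩ fun h => hy1' (congrArg Subtype.val h)],
      Finset.sum_const, ← Nat.card_eq_card_toFinset, hc, nsmul_eq_mul]
    push_cast; ring
  by_cases hx1 : x = 1
  · rw [hx1, H12.irr_apply_one, Complex.norm_natCast]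
  have hu' : (⟨u, D.u_mem⟩ : (P : Subgroup G)) ≠ 1 := fun h => D.u_ne_one (congrArg Subtype.val h)
  have hle : c ≤ n := by
    have h1 : ‖(χ : G → ℂ) u‖ ≤ (n : ℝ) := H12.IsCharacter.norm_le (H12.isCharacter_irr χ) u
    rw [show (χ : G → ℂ) u = _ from hval _ hu', norm_mul, Complex.norm_natCast] at h1
    rcases hε with rfl | rfl <;> simp at h1 <;> exact h1
  obtain ⟨k, hk⟩ := exists_sum_res (H12.isCharacter_irr χ) (P : Subgroup G)
  rw [← Finset.add_sum_erase _ _ (Finset.mem_univ (1 : (P : Subgroup G))), D.hP,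
    Finset.sum_congr rfl fun y hy => hval y (Finset.ne_of_mem_erase hy)] at hk
  simp only [OneMemClass.coe_one, H12.irr_apply_one, ← hndef, Finset.sum_const,
    Finset.card_erase_of_mem (Finset.mem_univ _), Finset.card_univ, ← Nat.card_eq_fintype_card,
    D.hP, nsmul_eq_mul] at hk
  rw [Nat.cast_sub hp.out.one_le, Nat.cast_one] at hk
  have h1 : (n : ℤ) + ((p : ℤ) - 1) * (ε * c) = (p : ℤ) * k := by exact_mod_cast hk
  rw [hval ⟨x, hx⟩ fun h => hx1 (congrArg Subtype.val h), norm_mul, Complex.norm_natCast]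
  rcases hε with rfl | rfl
  · have h2 : ((n : ℤ) - c) = (p : ℤ) * (k - c) := by linear_combination h1
    have h3 := Int.eq_zero_of_abs_lt_dvd ⟨_, h2⟩ (abs_lt.2 ⟨by omega, by omega⟩)
    rw [show n = c by omega]; simp
  · exfalso
    have h2 : ((p : ℤ) - 1) * 1 ≤ ((p : ℤ) - 1) * c :=
      mul_le_mul_of_nonneg_left (by exact_mod_cast hc0) (by omega)
    have h3 : (0 : ℤ) ≤ (p : ℤ) * k := by positivity
    linarith [show (n : ℤ) + 2 ≤ p by exact_mod_cast hn]

/-- Without fusion in `P` it acts by scalars in small degree. -/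
theorem norm_eq_of_trivial_aut {M : Ideal AlgInt} [M.IsPrime] (hM : IsPModular p M)
    (hf : Nat.card (D.aut (H12.oneIrr H)) = 1) (χ : IrrCharacter G)
    (hn : H12.degree (χ : G → ℂ) + 2 ≤ p) {x : G} (hx : x ∈ (P : Subgroup G)) :
    ‖(χ : G → ℂ) x‖ = (H12.degree (χ : G → ℂ) : ℝ) := by
  classical
  haveI : Fintype (P : Subgroup G) := Fintype.ofFinite _
  by_cases hx1 : x = 1
  · rw [hx1, H12.irr_apply_one, Complex.norm_natCast]
  obtain ⟨θ, hθ⟩ := D.exists_mem_supp_of_lt hM (χ := χ) (by omega)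
  haveI : Fintype (D.aut θ) := Fintype.ofFinite _
  haveI : Fintype (D.orbit θ) := Fintype.ofFinite _
  obtain ⟨S⟩ := D.exists_shape hM θ
  rcases (D.union_eq_supp S).symm.subset hθ with h | h
  · exact norm_eq_of_colX D hM hθ (S.εX_eq χ h) (S.colX χ h) hn hx
  obtain ⟨ψ, hψ, hcol⟩ := S.colY χ h
  obtain ⟨g, hg⟩ := D.exists_terms hM θ
  have hv := hg χ hθ ψ S.ε hcol
  have hI : Fintype.card (D.orbit θ × D.aut θ) = 1 := by
    rw [Fintype.card_prod, ← Nat.card_eq_fintype_card, ← Nat.card_eq_fintype_card,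
      D.card_orbit_mul, hf]
  obtain ⟨m, hm, hmle⟩ := mult_facts D.hP (H12.IsCharacter.res (H12.isCharacter_irr χ) (P : Subgroup G))
    (by rw [OneMemClass.coe_one, H12.irr_apply_one]) (fun i => twist ψ (g i))
    (fun i h' => hψ (twist_eq_one_iff.1 h')) (S.ε * (H12.degree (θ : H → ℂ) : ℤ))
    (fun y hy => (hv y hy).trans (by push_cast; rfl))
  rw [hI] at hm hmle
  have hd := H12.irr_degree_pos θ
  have hp2 := hp.out.two_le
  rcases S.ε_eq with hε | hε <;> rw [hε] at hm hv
  · have hm0 : m = 0 := by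
      by_contra h0
      have := Nat.le_mul_of_pos_right (p - 1) (Nat.pos_of_ne_zero h0)
      omega
    rw [hm0, Nat.cast_zero, mul_zero, Nat.cast_one, mul_one, one_mul] at hm
    have hdn : H12.degree (θ : H → ℂ) = H12.degree (χ : G → ℂ) := by omega
    obtain ⟨i₀, hi₀⟩ := Fintype.card_eq_one_iff.1 hI
    have h1 := hv ⟨x, hx⟩ fun h' => hx1 (congrArg Subtype.val h')
    rw [Fintype.sum_eq_single i₀ fun i hi => absurd (hi₀ i) hi] at h1
    rw [show (χ : G → ℂ) x = _ from h1, norm_mul, H12.norm_eq_one_of_pow_eq_one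
      (hp.out.ne_zero) (show ((twist ψ (g i₀) ⟨x, hx⟩ : ℂˣ) : ℂ) ^ p = 1 by
        have hxp := pow_card_eq_one' (G := (P : Subgroup G)) (x := ⟨x, hx⟩)
        rw [D.hP] at hxp
        rw [← Units.val_pow_eq_pow_val, ← map_pow, hxp, map_one, Units.val_one]), hdn]
    simp
  · exfalso
    rcases Nat.eq_zero_or_pos m with h0 | h0
    · rw [h0] at hm; push_cast at hm; omega
    · have := Nat.le_mul_of_pos_right (p - 1) h0
      omega

/-- The reduction. -/
theorem reduce [Fintype (D.aut (H12.oneIrr H))] {M : Ideal AlgInt} [M.IsPrime]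
    (hM : IsPModular p M) (hp5 : 5 < p) (hnn : ¬ (P : Subgroup G).Normal) (χ : IrrCharacter G)
    (hdeg : H12.degree (χ : G → ℂ) = p - 2)
    (hfaith : ∀ g : G, (χ : G → ℂ) g = (χ : G → ℂ) 1 → g = 1) :
    Ctx D ∧ ∃ θ ψ, Good D χ θ ψ := by
  classical
  haveI : Fintype (P : Subgroup G) := Fintype.ofFinite _
  obtain ⟨x₀, hx₀, hne⟩ : ∃ x ∈ (P : Subgroup G),
      ‖(χ : G → ℂ) x‖ ≠ (H12.degree (χ : G → ℂ) : ℝ) := by
    by_contra! hall
    refine hnn ⟨fun x hx g => ?_⟩
    rw [Subgroup.mem_center_iff.1 (mem_center_of_norm χ hfaith (hall x hx)) g, mul_inv_cancel_right]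
    exact hx
  set f := Nat.card (D.aut (H12.oneIrr H)) with hfdef
  set n := H12.degree (χ : G → ℂ) with hndef
  have hf1 : f ≠ 1 := fun hf => hne (norm_eq_of_trivial_aut D hM hf χ (by omega) hx₀)
  have hfp : f + 1 ≠ p := fun hf => hne (D.norm_eq_of_transitive hf χ (by omega) hx₀)
  obtain ⟨hf', hfdvd⟩ : 2 * f + 1 ≤ p ∧ f ∣ p - 1 := by
    obtain ⟨S₀⟩ := D.exists_shape hM (H12.oneIrr H)
    have h := S₀.card_Y
    rw [← hfdef] at h
    refine ⟨?_, ⟨Nat.card S₀.Y, by rw [mul_comm]; omega⟩⟩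
    rcases Nat.lt_or_ge (Nat.card S₀.Y) 2 with h2 | h2
    · interval_cases h3 : Nat.card S₀.Y
      · omega
      · omega
    · have := Nat.mul_le_mul_right f h2
      omega
  have hf2 : 2 ≤ f := by
    have h0 : 0 < f := hfdef ▸ Nat.card_pos
    omega
  obtain ⟨θ, hθ⟩ := D.exists_mem_supp_of_lt hM (χ := χ) (by omega)
  haveI iT : Fintype (D.aut θ) := Fintype.ofFinite _
  haveI : Fintype (D.orbit θ) := Fintype.ofFinite _
  have key : ∀ [Fintype (P : Subgroup G)] [Fintype (D.aut θ)]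
      (S : Shape p (D.aut θ) (fun (χ : IrrCharacter G) (x : (P : Subgroup G)) => D.col θ χ x)
        (fun (χ : IrrCharacter G) (g : {g : G // ¬ p ∣ orderOf g}) => (χ : G → ℂ) g)),
      χ ∈ S.Y ∧ S.ε = -1 ∧ f = 2 ∧ H12.degree (θ : H → ℂ) = 1 := by
    intro _ _ S
    rcases (D.union_eq_supp S).symm.subset hθ with h | h
    · exact absurd (norm_eq_of_colX D hM hθ (S.εX_eq χ h) (S.colX χ h) (by omega) hx₀) hne
    obtain ⟨ψ, hψ, hcol⟩ := S.colY χ h
    obtain ⟨g, hg⟩ := D.exists_terms hM θ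
    have hI : Fintype.card (D.orbit θ × D.aut θ) = f := by
      rw [Fintype.card_prod, ← Nat.card_eq_fintype_card, ← Nat.card_eq_fintype_card,
        D.card_orbit_mul]
    obtain ⟨m, hm, hmle⟩ := mult_facts D.hP
      (H12.IsCharacter.res (H12.isCharacter_irr χ) (P : Subgroup G))
      (by rw [OneMemClass.coe_one, H12.irr_apply_one]) (fun i => twist ψ (g i))
      (fun i h' => hψ (twist_eq_one_iff.1 h')) (S.ε * (H12.degree (θ : H → ℂ) : ℤ))
      (fun y hy => (hg χ hθ ψ S.ε hcol y hy).trans (by push_cast; rfl))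
    rw [hI, ← hndef] at hm hmle
    set d := H12.degree (θ : H → ℂ)
    have hd : 0 < d := H12.irr_degree_pos θ
    rcases S.ε_eq with hε | hε <;> rw [hε] at hm
    · exfalso
      have hm0 : m = 0 := by
        by_contra h0
        have h1 := Nat.le_mul_of_pos_right p (Nat.pos_of_ne_zero h0)
        have h2 : (p : ℤ) ≤ (p : ℤ) * m := by exact_mod_cast h1
        have h3 : (0 : ℤ) ≤ (d : ℤ) * f := by positivity
        rw [one_mul] at hm
        omega
      rw [hm0, Nat.cast_zero, mul_zero, one_mul, sub_eq_zero] at hm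
      have hdvd : f ∣ n := ⟨d, by rw [mul_comm f d]; exact_mod_cast hm⟩
      have h1 : f ∣ p - 1 - n := Nat.dvd_sub hfdvd hdvd
      rw [show p - 1 - n = 1 by omega] at h1
      exact hf1 (Nat.dvd_one.1 h1)
    · refine ⟨h, hε, ?_⟩
      have h0 : 0 < d * f := Nat.mul_pos hd (by omega)
      have hm' : n + d * f = p * m := by
        zify
        linear_combination hm
      rcases Nat.lt_or_ge m 2 with h1 | h1
      · interval_cases m
        · omega
        · have h2 : d * f = 2 := by omega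
          have h3 : f ≤ 2 := h2 ▸ Nat.le_mul_of_pos_left f hd
          have h4 : f = 2 := by omega
          rw [h4] at h2
          exact ⟨h4, by omega⟩
      · have := Nat.mul_le_mul_left (p - f) h1
        omega
  obtain ⟨S⟩ := D.exists_shape hM θ
  obtain ⟨hχY, hε, hf, hd1⟩ := key S
  obtain ⟨ψ, hψ, hcol⟩ := S.colY χ hχY
  have hOe : Nat.card (D.orbit θ) * Nat.card (D.aut θ) = 2 := (D.card_orbit_mul θ).trans hf
  choose d₀ hd₀ using fun φ : IrrCharacter H => D.exists_col_one φ χ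
  have htot : ∑ φ : IrrCharacter H, d₀ φ * H12.degree (φ : H → ℂ) = n := by
    have h1 := D.apply_eq_sum_col χ (one_mem (P : Subgroup G)) (1 : H)
    simp only [OneMemClass.coe_one, one_mul, H12.irr_apply_one, hd₀] at h1
    rw [← hndef] at h1
    exact_mod_cast h1.symm
  obtain ⟨k, hk⟩ := D.exists_sum_col θ χ
  rw [← Finset.add_sum_erase _ _ (Finset.mem_univ (1 : (P : Subgroup G))),
    OneMemClass.coe_one, hd₀,
    Finset.sum_congr rfl fun x hx => hcol x (Finset.ne_of_mem_erase hx), ← Finset.mul_sum,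
    Finset.sum_comm, Finset.sum_congr rfl fun (α : D.aut θ) _ => show
      ∑ x ∈ Finset.univ.erase (1 : (P : Subgroup G)),
        (ψ ((α : MulAut (P : Subgroup G)) x) : ℂ) = -1 from
      sum_erase_one_lin (ψ := twist ψ ⟨α, D.aut_le θ α.2⟩) (mt twist_eq_one_iff.1 hψ),
    Finset.sum_const, Finset.card_univ, ← Nat.card_eq_fintype_card, hε, nsmul_eq_mul] at hk
  push_cast at hk
  have hk' : d₀ θ + Nat.card (D.aut θ) = p * k := by
    have : ((d₀ θ + Nat.card (D.aut θ) : ℕ) : ℂ) = ((p * k : ℕ) : ℂ) := by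
      push_cast
      linear_combination hk
    exact_mod_cast this
  have hsingle : d₀ θ * H12.degree (θ : H → ℂ) ≤ n := htot ▸
    Finset.single_le_sum (f := fun φ : IrrCharacter H => d₀ φ * H12.degree (φ : H → ℂ))
      (fun i _ => Nat.zero_le _) (Finset.mem_univ θ)
  rw [hd1, mul_one] at hsingle
  have he0 : 0 < Nat.card (D.aut θ) := Nat.card_pos
  have hk1 : p ≤ p * k := Nat.le_mul_of_pos_right p (Nat.pos_of_ne_zero fun h0 => by
    rw [h0, mul_zero] at hk'; omega)
  have he2' : Nat.card (D.aut θ) ≤ 2 := hOe ▸ Nat.le_mul_of_pos_left _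
    (Nat.card_pos_iff.2 ⟨⟨⟨θ, D.mem_orbit_self θ⟩⟩, inferInstance⟩)
  have he2 : Nat.card (D.aut θ) = 2 := by omega
  have hd₀n : d₀ θ = n := by omega
  have hrest : ∀ φ, φ ≠ θ → d₀ φ = 0 := fun φ hφ => by
    rw [← Finset.add_sum_erase _ _ (Finset.mem_univ θ), hd1, mul_one, hd₀n] at htot
    have h1 := Finset.sum_eq_zero_iff.1 (by omega :
      ∑ φ ∈ Finset.univ.erase θ, d₀ φ * H12.degree (φ : H → ℂ) = 0) φ
      (Finset.mem_erase.2 ⟨hφ, Finset.mem_univ _⟩)
    exact (Nat.mul_eq_zero.1 h1).resolve_right (H12.irr_degree_pos φ).ne'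
  have hscal : ∀ h : H, (χ : G → ℂ) h = (n : ℂ) * (θ : H → ℂ) h := fun h => by
    have h1 := D.apply_eq_sum_col χ (one_mem (P : Subgroup G)) h
    rw [one_mul] at h1
    rw [h1, Finset.sum_eq_single θ (fun φ _ hφ => by rw [hd₀, hrest φ hφ]; simp) (by simp),
      hd₀, hd₀n]
  obtain ⟨l, hl⟩ := H12.exists_monoidHom_of_apply_one_eq_one (H12.isCharacter_irr θ)
    (show (θ : H → ℂ) 1 = 1 by rw [H12.irr_apply_one, hd1, Nat.cast_one])
  have hcent : H = Subgroup.center G := by
    have hle : H ≤ Subgroup.center G := fun y hy => by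
      refine mem_center_of_norm χ hfaith ?_
      rw [show y = ((⟨y, hy⟩ : H) : G) from rfl, hscal, norm_mul, Complex.norm_natCast,
        ← congrFun hl, H12.norm_eq_one_of_pow_eq_one (n := orderOf (⟨y, hy⟩ : H))
        (orderOf_pos _).ne' (by rw [← Units.val_pow_eq_pow_val, ← map_pow, pow_orderOf_eq_one,
          map_one, Units.val_one]), mul_one, hndef]
    refine le_antisymm hle fun z hz => ?_
    obtain ⟨x, hx, y, hy, rfl⟩ :=
      D.exists_mul (fun w _ => (Subgroup.mem_center_iff.1 hz w : w * z = z * w))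
    rcases eq_or_ne x 1 with hx1 | hx1
    · rw [hx1, one_mul]; exact hy
    refine absurd ⟨fun w hw g => ?_⟩ hnn
    have hxc : x ∈ Subgroup.center G := by
      have := mul_mem hz (inv_mem (hle hy))
      rwa [mul_inv_cancel_right] at this
    have hw' : w ∈ Subgroup.center G := by
      have h1 : w ∈ Subgroup.zpowers x := by rw [H20.PrimeSylow.zpowers_eq D.hP hx hx1]; exact hw
      exact (Subgroup.zpowers_le.2 hxc) h1
    rw [Subgroup.mem_center_iff.1 hw' g, mul_inv_cancel_right]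
    exact hw
  refine ⟨⟨hp5, hcent, hf⟩, θ, ψ, hθ, hdeg, hfaith, hψ, fun x hx => ?_, fun S' => ?_⟩
  · rw [apply_eq_col D hcent.le hM hθ x.2 (fun h' => hx (Subtype.ext h')), hcol x hx, hε,
      sum_aut_eq D hcent.le θ (fun α => (ψ (α x) : ℂ)), Ctx.sum_aut hf]
    simp
  · exact ⟨(key S').1, (key S').2.1⟩

end H15.PSubTwo
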