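import Mathlib

/-!
Degree `p - 2` (helper15): an inequality for sums of roots of unity and sums of their squares.
-/

set_option autoImplicit false

open scoped ComplexConjugate

namespace H15.PSubTwo

/-- Numbers of absolute value `1` with a large sum cannot have a large exterior square. -/
theorem false_of_large_square {n : ℕ} (hn : 5 ≤ n) (μ : Fin n → ℂ) (hμ : ∀ i, ‖μ i‖ = 1)
    (hlow : (n : ℝ) - 2 ≤ ‖∑ i, μ i‖) (hlt : ‖∑ i, μ i‖ < n)
    (h : ((n : ℝ) - 1) * ‖∑ i, μ i‖ ≤ ‖(∑ i, μ i) * (∑ i, μ i) - ∑ i, μ i * μ i‖) : False := by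
  set A := ‖∑ i, μ i‖ with hA
  have hN : (5 : ℝ) ≤ n := by exact_mod_cast hn
  have hA0 : 0 < A := by linarith
  set γ : ℂ := (∑ i, μ i) / (A : ℂ) with hγ
  have hγ1 : ‖γ‖ = 1 := by
    rw [hγ, norm_div, ← hA, Complex.norm_real, Real.norm_of_nonneg hA0.le, div_self hA0.ne']
  set ν : Fin n → ℂ := fun i => μ i * conj γ with hν
  have hν1 : ∀ i, ‖ν i‖ = 1 := fun i => by rw [hν]; simp [hμ i, hγ1]
  have hsum : ∑ i, ν i = (A : ℂ) := by
    have h1 : (∑ i, μ i) = (A : ℂ) * γ := by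
      rw [hγ, mul_div_cancel₀]
      exact_mod_cast hA0.ne'
    rw [hν, ← Finset.sum_mul, h1, mul_assoc, Complex.mul_conj, Complex.normSq_eq_norm_sq, hγ1]
    simp
  have hnorm : ‖(∑ i, μ i) * (∑ i, μ i) - ∑ i, μ i * μ i‖ =
      ‖(A : ℂ) * A - ∑ i, ν i * ν i‖ := by
    have h1 : (A : ℂ) * A - ∑ i, ν i * ν i =
        ((∑ i, μ i) * (∑ i, μ i) - ∑ i, μ i * μ i) * (conj γ * conj γ) := by
      rw [← hsum, hν, ← Finset.sum_mul, sub_mul,
        Finset.sum_mul (Finset.univ : Finset (Fin n)) (fun i => μ i * μ i) (conj γ * conj γ)]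
      congr 1
      · ring
      · exact Finset.sum_congr rfl fun i _ => by ring
    rw [h1, norm_mul _ (conj γ * conj γ), norm_mul (conj γ), Complex.norm_conj, hγ1, mul_one,
      mul_one]
  set x : Fin n → ℝ := fun i => (ν i).re with hx
  set y : Fin n → ℝ := fun i => (ν i).im with hy
  have hxy : ∀ i, x i * x i + y i * y i = 1 := fun i => by
    rw [hx, hy, ← Complex.normSq_apply, Complex.normSq_eq_norm_sq, hν1 i, one_pow]
  have hsx : ∑ i, x i = A := by
    have := congrArg Complex.re hsum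
    simpa [Complex.re_sum] using this
  have hsy : ∑ i, y i = 0 := by
    have := congrArg Complex.im hsum
    simpa [Complex.im_sum] using this
  have hre : ((A : ℂ) * A - ∑ i, ν i * ν i).re = A * A - ∑ i, (x i * x i - y i * y i) := by
    simp [Complex.re_sum, hx, hy]
  have him : ((A : ℂ) * A - ∑ i, ν i * ν i).im = -(2 * ∑ i, x i * y i) := by
    simp only [Complex.sub_im, Complex.mul_im, Complex.ofReal_re, Complex.ofReal_im, mul_zero,
      zero_mul, add_zero, Complex.im_sum, zero_sub, Finset.mul_sum, hx, hy]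
    congr 1
    exact Finset.sum_congr rfl fun i _ => by ring
  set a := (n : ℝ) - A with ha
  have ha0 : 0 < a := by linarith
  have ha2 : a ≤ 2 := by linarith
  have hδ : ∀ i, 0 ≤ 1 - x i := fun i => by nlinarith [hxy i, sq_nonneg (y i)]
  have hsδ : ∑ i, (1 - x i) = a := by
    rw [Finset.sum_sub_distrib, hsx]; simp [ha]
  have hcs : a * a ≤ (n : ℝ) * ∑ i, (1 - x i) ^ 2 := by
    have := sq_sum_le_card_mul_sum_sq (s := (Finset.univ : Finset (Fin n))) (f := fun i => 1 - x i)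
    rw [hsδ, Finset.card_univ, Fintype.card_fin] at this
    linarith [sq a]
  have hR : ∑ i, (x i * x i - y i * y i) = (n : ℝ) - 4 * a + 2 * ∑ i, (1 - x i) ^ 2 := by
    rw [← hsδ, Finset.mul_sum, Finset.mul_sum,
      show (n : ℝ) = ∑ _i : Fin n, (1 : ℝ) by simp, ← Finset.sum_sub_distrib,
      ← Finset.sum_add_distrib]
    exact Finset.sum_congr rfl fun i _ => by linear_combination -(hxy i)
  have hRle : ∑ i, (x i * x i - y i * y i) ≤ n := by
    rw [show (n : ℝ) = ∑ _i : Fin n, (1 : ℝ) by simp]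
    exact Finset.sum_le_sum fun i _ => by nlinarith [hxy i, sq_nonneg (y i)]
  have hI : |∑ i, x i * y i| ≤ a := by
    rw [show ∑ i, x i * y i = ∑ i, -((1 - x i) * y i) by
      rw [← sub_eq_zero, ← Finset.sum_sub_distrib]
      refine Eq.trans ?_ hsy
      exact Finset.sum_congr rfl fun i _ => by ring, ← hsδ]
    refine (Finset.abs_sum_le_sum_abs _ _).trans (Finset.sum_le_sum fun i _ => ?_)
    rw [abs_neg, abs_mul, abs_of_nonneg (hδ i)]
    refine mul_le_of_le_one_right (hδ i) ?_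
    rw [abs_le]
    constructor <;> nlinarith [hxy i, sq_nonneg (x i)]
  rw [hnorm] at h
  set R := A * A - ∑ i, (x i * x i - y i * y i) with hRdef
  set I := ∑ i, x i * y i with hIdef
  have hsq : ((n : ℝ) - 1) ^ 2 * (A * A) ≤ R ^ 2 + 4 * (a * a) := by
    have h1 := mul_self_le_mul_self (mul_nonneg (by linarith) hA0.le) h
    have h2 : ‖(A : ℂ) * A - ∑ i, ν i * ν i‖ * ‖(A : ℂ) * A - ∑ i, ν i * ν i‖ =
        R * R + (2 * I) * (2 * I) := by
      rw [← sq, ← Complex.normSq_eq_norm_sq, Complex.normSq_apply, hre, him]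
      ring
    have h3 : I * I ≤ a * a := by
      obtain ⟨h4, h5⟩ := abs_le.1 hI
      nlinarith
    nlinarith
  have hR0 : 0 ≤ R := by nlinarith
  set d := ((n : ℝ) - 1) * A - R with hd
  have hd1 : 4 * a ≤ 5 * d := by
    have e1 : R = ((n : ℝ) - a) * ((n : ℝ) - a) - ((n : ℝ) - 4 * a + 2 * ∑ i, (1 - x i) ^ 2) := by
      rw [hRdef, hR, show A = (n : ℝ) - a by rw [ha]; ring]
    have e2 : (n : ℝ) * d = (n : ℝ) * (a * ((n : ℝ) - 3) - a * a) +
        2 * ((n : ℝ) * ∑ i, (1 - x i) ^ 2) := by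
      rw [hd, e1, show A = (n : ℝ) - a by rw [ha]; ring]
      ring
    have e3 : a * (((n : ℝ) - 1) * ((n : ℝ) - 4)) ≤ (n : ℝ) * d := by
      nlinarith [mul_le_mul_of_nonneg_left ha2 (mul_nonneg ha0.le
        (show (0 : ℝ) ≤ (n : ℝ) - 2 by linarith))]
    have e4 : a * (4 * (n : ℝ)) ≤ a * (5 * (((n : ℝ) - 1) * ((n : ℝ) - 4))) := by
      refine mul_le_mul_of_nonneg_left ?_ ha0.le
      nlinarith
    exact le_of_mul_le_mul_left (show (n : ℝ) * (4 * a) ≤ (n : ℝ) * (5 * d) by linarith)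
      (by linarith)
  have hs : (12 : ℝ) ≤ ((n : ℝ) - 1) * A + R := by nlinarith
  have hprod : d * (((n : ℝ) - 1) * A + R) ≤ 4 * (a * a) := by rw [hd]; nlinarith
  have hd0 : 0 ≤ d := by linarith
  nlinarith [mul_le_mul_of_nonneg_left hs hd0, mul_le_mul_of_nonneg_left ha2 ha0.le]

end H15.PSubTwo
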