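import Cfsg.Agent.H15.PSubTwo.Square
import Cfsg.Agent.H15.PSubTwo.Rotate
import Cfsg.Agent.H19.GaloisAvg

/-!
Degree `p - 2` (helper15): the values on regular elements.
-/

set_option autoImplicit false
set_option linter.style.haveILetI false
set_option linter.unusedSectionVars false

open Cfsg
open scoped ComplexConjugate

namespace H15.PSubTwo

open H85.D1 H15.HalfDeg

universe u

/-- The faithful characters of degree `p - 2`. -/
def FD {G : Type u} [Group G] (p : ℕ) (χ : IrrCharacter G) : Prop :=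
  H12.degree (χ : G → ℂ) = p - 2 ∧ ∀ g : G, (χ : G → ℂ) g = (χ : G → ℂ) 1 → g = 1

theorem exists_root_of_odd {A : Type*} [Group A] (H : Subgroup A) [Finite H]
    (hodd : Odd (Nat.card H)) {k : A} (hk : k ∈ H) : ∃ k' ∈ H, k' * k' = k := by
  obtain ⟨m, hm⟩ := hodd
  refine ⟨k ^ (m + 1), pow_mem hk _, ?_⟩
  have h1 : k ^ Nat.card H = 1 := congrArg Subtype.val (pow_card_eq_one' (x := (⟨k, hk⟩ : H)))
  rw [← pow_add, show m + 1 + (m + 1) = Nat.card H + 1 by omega, pow_succ, h1, one_mul]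

/-- Character values at elements squaring to `1` are integers. -/
theorem exists_int_of_sq {A : Type*} [Group A] [Finite A] {χ : A → ℂ} (hχ : IsCharacter A χ)
    {j : A} (hj : j * j = 1) : ∃ k : ℤ, χ j = (k : ℂ) := by
  obtain ⟨n, ρ, rfl⟩ := hχ
  obtain ⟨μ, h1, h2, -⟩ := H12.exists_char_eigenvalues ρ j
  have hg : ρ.character j = ∑ i, μ i := by simpa using h2 1
  have h3 : ∀ i, ∃ k : ℤ, μ i = (k : ℂ) := fun i => by
    obtain ⟨c, hc⟩ := orderOf_dvd_of_pow_eq_one (show j ^ 2 = 1 by rw [pow_two, hj])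
    have h4 : μ i ^ 2 = 1 := by rw [hc, pow_mul, h1 i, one_pow]
    rcases sq_eq_one_iff.1 h4 with h5 | h5
    · exact ⟨1, by rw [h5]; simp⟩
    · exact ⟨-1, by rw [h5]; simp⟩
  choose k hk using h3
  exact ⟨∑ i, k i, by rw [hg, Finset.sum_congr rfl fun i _ => hk i, Int.cast_sum]⟩

variable {G : Type u} [Group G] [Fintype G] {p : ℕ} [hp : Fact p.Prime]
  {P : Sylow p G} {u a : G} {H : Subgroup G} [Fintype H] {D : Setting P u a H}
  [Fintype (D.aut (H12.oneIrr H))] {χ : IrrCharacter G} {θ : IrrCharacter H}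
  {ψ : (P : Subgroup G) →* ℂˣ} {M : Ideal AlgInt} [hMp : M.IsPrime]

theorem Good.fd (h : Good D χ θ ψ) : FD p χ := ⟨h.degree_eq, h.faithful⟩

theorem exists_good (hP : Perf D) (hM : IsPModular p M) {χ : IrrCharacter G} (hχ : FD p χ) :
    ∃ θ ψ, Good D χ θ ψ :=
  (reduce D hM hP.five_lt hP.not_normal χ hχ.1 hχ.2).2

theorem regular_mul_self {y : G} (hy : ¬ p ∣ orderOf y) : ¬ p ∣ orderOf (y * y) := fun h =>
  hy (h.trans (by rw [← pow_two]; exact orderOf_pow_dvd 2))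

theorem regular_pow {y : G} (hy : ¬ p ∣ orderOf y) (j : ℕ) : ¬ p ∣ orderOf (y ^ j) := fun h =>
  hy (h.trans (orderOf_pow_dvd j))

/-- The value at an involution. -/
theorem apply_involution (hP : Perf D) (h : Good D χ θ ψ) (hM : IsPModular p M) {j : G}
    (hj : j * j = 1) (hjH : j ∉ H) : (χ : G → ℂ) j = -1 := by
  obtain ⟨σ, hσ⟩ := exists_squares hP h hM
  have h5 := hP.five_lt
  have hjr : ¬ p ∣ orderOf j := fun hd => by
    have h2 := Nat.le_of_dvd two_pos (hd.trans (orderOf_dvd_of_pow_eq_one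
      (show j ^ 2 = 1 by rw [pow_two, hj])))
    omega
  have h1 := square_eq hP h hM hσ hjr
  obtain ⟨k, hk⟩ := exists_int_of_sq (H12.isCharacter_irr χ) hj
  rw [hj, H12.irr_apply_one, h.degree_eq, hk, map_intCast, Nat.cast_sub (by omega)] at h1
  push_cast at h1
  have h2 : ((k : ℂ) + 1) * ((k : ℂ) - ((p : ℂ) - 2)) = 0 := by linear_combination h1
  rcases mul_eq_zero.1 h2 with h3 | h3
  · rw [hk]; linear_combination h3
  · exfalso
    have h4 : (χ : G → ℂ) j = (χ : G → ℂ) 1 := by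
      rw [hk, H12.irr_apply_one, h.degree_eq, Nat.cast_sub (by omega)]
      push_cast
      linear_combination h3
    exact hjH (h.faithful j h4 ▸ one_mem H)

/-- An element with central square is an involution times a central element. -/
theorem exists_involution (hP : Perf D) (h : Good D χ θ ψ) (hM : IsPModular p M) {y : G}
    (hyH : y ∉ H) (hy2 : y * y ∈ H) : ∃ j : G, ∃ k : H, j * j = 1 ∧ j ∉ H ∧ y = j * k := by
  obtain ⟨k', hk', hkk⟩ := exists_root_of_odd H (odd_card_center hP h hM) hy2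
  refine ⟨y * k'⁻¹, ⟨k', hk'⟩, ?_, fun hj => hyH ?_, by rw [inv_mul_cancel_right]⟩
  · have hc := Subgroup.mem_center_iff.1 (hP.toCtx.central_le (inv_mem hk')) y
    calc y * k'⁻¹ * (y * k'⁻¹) = y * (k'⁻¹ * y) * k'⁻¹ := by group
      _ = y * (y * k'⁻¹) * k'⁻¹ := by rw [hc]
      _ = y * y * (k' * k')⁻¹ := by group
      _ = 1 := by rw [hkk, mul_inv_cancel]
  · have := mul_mem hj hk'
    rwa [inv_mul_cancel_right] at this

theorem norm_of_sq_mem (hP : Perf D) (h : Good D χ θ ψ) (hM : IsPModular p M) {y : G}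
    (hyH : y ∉ H) (hy2 : y * y ∈ H) : ‖(χ : G → ℂ) y‖ = 1 := by
  obtain ⟨j, k, hj, hjH, rfl⟩ := exists_involution hP h hM hyH hy2
  rw [central_mul D hP.toCtx.central_le hM h.mem_supp, apply_involution hP h hM hj hjH, norm_mul,
    norm_lin D hP.toCtx.central_le θ k]
  simp

theorem norm_lt_degree (hP : Perf D) (h : Good D χ θ ψ) {y : G} (hyH : y ∉ H) :
    ‖(χ : G → ℂ) y‖ < ((p - 2 : ℕ) : ℝ) := by
  refine lt_of_le_of_ne ?_ fun he => hyH ?_
  · rw [← h.degree_eq]; exact H12.IsCharacter.norm_le (H12.isCharacter_irr χ) y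
  · rw [hP.center_eq]
    exact mem_center_of_norm χ h.faithful (by rw [he, h.degree_eq])

/-- Every faithful character of degree `p - 2` is a conjugate of another one. -/
theorem exists_preimage (hP : Perf D) (hM : IsPModular p M) (σ : ℂ ≃+* ℂ) {χ' : IrrCharacter G}
    (hχ' : FD p χ') : ∃ χ : IrrCharacter G, FD p χ ∧ ∀ g, (χ' : G → ℂ) g = σ ((χ : G → ℂ) g) := by
  classical
  have hex : ∀ c : {c : IrrCharacter G // FD p c}, ∃ c' : {c : IrrCharacter G // FD p c},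
      ((c' : IrrCharacter G) : G → ℂ) = σ ∘ ((c : IrrCharacter G) : G → ℂ) := fun c => by
    obtain ⟨θ', ψ', h'⟩ := exists_good hP hM c.2
    obtain ⟨c', he, hd, hf⟩ := exists_conjugate h' σ
    exact ⟨⟨c', hd, hf⟩, he⟩
  choose F hF using hex
  have hinj : Function.Injective F := fun c d hcd => by
    refine Subtype.ext (Subtype.ext (funext fun g => σ.injective ?_))
    have := congrFun ((hF c).symm.trans ((congrArg (fun z : {c : IrrCharacter G // FD p c} =>
      ((z : IrrCharacter G) : G → ℂ)) hcd).trans (hF d))) g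
    exact this
  obtain ⟨c, hc⟩ := (Finite.injective_iff_surjective.1 hinj) ⟨χ', hχ'⟩
  refine ⟨c, c.2, fun g => ?_⟩
  have := congrFun (hF c) g
  rw [hc] at this
  exact this

/-- The values on regular non-central elements. -/
theorem norm_le_one (hP : Perf D) (h : Good D χ θ ψ) (hM : IsPModular p M) {y : G}
    (hy : ¬ p ∣ orderOf y) (hyH : y ∉ H) : ‖(χ : G → ℂ) y‖ ≤ 1 := by
  classical
  have h5 := hP.five_lt
  obtain ⟨σ, hσ⟩ := exists_squares hP h hM
  let T : Finset (IrrCharacter G × G) := Finset.univ.filter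
    fun cy => FD p cy.1 ∧ ¬ p ∣ orderOf cy.2 ∧ cy.2 ∉ H
  have hT : (χ, y) ∈ T := Finset.mem_filter.2 ⟨Finset.mem_univ _, h.fd, hy, hyH⟩
  obtain ⟨⟨c₀, y₀⟩, hcy, hmax⟩ := Finset.exists_max_image T
    (fun cy => ‖(cy.1 : G → ℂ) cy.2‖) ⟨_, hT⟩
  obtain ⟨-, hc₀, hy₀, hy₀H⟩ := Finset.mem_filter.1 hcy
  refine (hmax _ hT).trans ?_
  show ‖(c₀ : G → ℂ) y₀‖ ≤ 1
  obtain ⟨c, hc, hcσ⟩ := exists_preimage hP hM σ hc₀
  obtain ⟨θc, ψc, hg⟩ := exists_good hP hM hc
  by_cases hsq : y₀ * y₀ ∈ H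
  · obtain ⟨θ₀, ψ₀, hg₀⟩ := exists_good hP hM hc₀
    exact (norm_of_sq_mem hP hg₀ hM hy₀H hsq).le
  by_contra hgt
  rw [not_le] at hgt
  set M₀ := ‖(c₀ : G → ℂ) y₀‖ with hM₀
  set A := ‖(c : G → ℂ) y₀‖ with hA
  have hA0 : 0 ≤ A := norm_nonneg _
  have hAM : A ≤ M₀ := hmax (c, y₀) (Finset.mem_filter.2 ⟨Finset.mem_univ _, hc, hy₀, hy₀H⟩)
  have hBM : ‖(c : G → ℂ) (y₀ * y₀)‖ ≤ M₀ :=
    hmax (c, y₀ * y₀) (Finset.mem_filter.2 ⟨Finset.mem_univ _, hc, regular_mul_self hy₀, hsq⟩)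
  have heq := square_eq hP hg hM hσ hy₀
  rw [← hcσ] at heq
  have hp3 : ‖(p : ℂ) - 3‖ = (p : ℝ) - 3 := by
    rw [show (p : ℂ) - 3 = (((p : ℝ) - 3 : ℝ) : ℂ) by push_cast; ring, Complex.norm_real,
      Real.norm_of_nonneg]
    have : (5 : ℝ) < p := by exact_mod_cast h5
    linarith
  have hn : ‖(c : G → ℂ) y₀ * (c : G → ℂ) y₀ - (c : G → ℂ) (y₀ * y₀)‖ = ((p : ℝ) - 3) * M₀ := by
    rw [heq, norm_mul, hp3]
  have hup : ((p : ℝ) - 3) * M₀ ≤ A * A + M₀ := by
    rw [← hn]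
    exact (norm_sub_le _ _).trans (by rw [norm_mul]; linarith)
  have hp7 : (7 : ℝ) ≤ p := by
    have hodd : Odd p := hp.out.odd_of_ne_two (by omega)
    rw [Nat.odd_iff] at hodd
    exact_mod_cast (show 7 ≤ p by omega)
  have hMbig : (p : ℝ) - 4 ≤ M₀ := by
    have h1 : ((p : ℝ) - 4) * M₀ ≤ M₀ * M₀ := by
      nlinarith [mul_le_mul hAM hAM hA0 (norm_nonneg ((c₀ : G → ℂ) y₀))]
    exact le_of_mul_le_mul_right h1 (by linarith)
  have hAbig : (p : ℝ) - 4 ≤ A := by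
    have h1 : ((p : ℝ) - 4) * ((p : ℝ) - 4) ≤ A * A := by
      nlinarith [mul_le_mul_of_nonneg_left hMbig (show (0 : ℝ) ≤ (p : ℝ) - 4 by linarith)]
    nlinarith
  obtain ⟨d, ρ, hρi, he⟩ := c.2
  have hd : d = p - 2 := by
    rw [← hc.1, ← he, H12.degree_character]; simp
  obtain ⟨μ, h1, h2, -⟩ := H12.exists_char_eigenvalues ρ y₀
  have hfr : Module.finrank ℂ (Fin d → ℂ) = p - 2 := by simp [hd]
  have hv1 : (c : G → ℂ) y₀ = ∑ i, μ i := by rw [← he]; simpa using h2 1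
  have hv2 : (c : G → ℂ) (y₀ * y₀) = ∑ i, μ i * μ i := by
    rw [← he, ← pow_two, h2 2]
    exact Finset.sum_congr rfl fun i _ => pow_two _
  have hcast : ((Module.finrank ℂ (Fin d → ℂ) : ℕ) : ℝ) = (p : ℝ) - 2 := by
    rw [hfr, Nat.cast_sub (by omega)]; simp
  have hp7' : 7 ≤ p := by exact_mod_cast hp7
  refine false_of_large_square (by rw [hfr]; omega) μ
    (fun i => H12.norm_eq_one_of_pow_eq_one (orderOf_pos y₀).ne' (h1 i)) ?_ ?_ ?_
  · rw [hcast, ← hv1]; linarith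
  · rw [← hv1]
    exact (norm_lt_degree hP hg hy₀H).trans_eq (by rw [hfr])
  · rw [hcast, ← hv1, ← hv2, hn, ← hA]
    nlinarith

/-- The values on regular elements whose square is not central vanish. -/
theorem apply_eq_zero (hP : Perf D) (h : Good D χ θ ψ) (hM : IsPModular p M) {y : G}
    (hy : ¬ p ∣ orderOf y) (hy2 : y * y ∉ H) : (χ : G → ℂ) y = 0 := by
  classical
  have h5 := hP.five_lt
  obtain ⟨σ, hσ⟩ := exists_squares hP h hM
  obtain ⟨c, hc, hcσ⟩ := exists_preimage hP hM σ h.fd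
  obtain ⟨θc, ψc, hg⟩ := exists_good hP hM hc
  have hn0 : 0 < orderOf y := orderOf_pos y
  have hbd : ∀ j ∈ H19.units' (orderOf y), ‖(χ : G → ℂ) (y ^ j)‖ ^ 2 ≤ 1 / 4 := by
    intro j hj
    have hj' := (H19.mem_units'.1 hj).2
    have hr := regular_pow hy j
    have h2 : y ^ j * y ^ j ∉ H := fun hm => hy2 (by
      rw [← pow_add, ← two_mul, mul_comm, pow_mul'] at hm
      obtain ⟨m, hm'⟩ := exists_pow_eq_self_of_coprime (n := j) (x := y ^ 2)
        (hj'.symm.coprime_dvd_right (orderOf_pow_dvd 2))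
      rw [← pow_two, ← hm']
      exact pow_mem hm m)
    have h1 : y ^ j ∉ H := fun hm => h2 (mul_mem hm hm)
    have heq := congrArg (fun z : ℂ => ‖z‖) (square_eq hP hg hM hσ hr)
    simp only [← hcσ, norm_mul] at heq
    have hp3 : ‖(p : ℂ) - 3‖ = (p : ℝ) - 3 := by
      rw [show (p : ℂ) - 3 = (((p : ℝ) - 3 : ℝ) : ℂ) by push_cast; ring, Complex.norm_real,
        Real.norm_of_nonneg]
      have : (5 : ℝ) < p := by exact_mod_cast h5
      linarith
    rw [hp3] at heq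
    have hb : ((p : ℝ) - 3) * ‖(χ : G → ℂ) (y ^ j)‖ ≤ 2 := by
      rw [← heq]
      refine (norm_sub_le _ _).trans ?_
      rw [norm_mul]
      have e1 := norm_le_one hP hg hM hr h1
      have e2 := norm_le_one hP hg hM (regular_mul_self hr) h2
      nlinarith [norm_nonneg ((c : G → ℂ) (y ^ j))]
    have hp7 : (7 : ℝ) ≤ p := by
      have hodd : Odd p := hp.out.odd_of_ne_two (by omega)
      rw [Nat.odd_iff] at hodd
      exact_mod_cast (show 7 ≤ p by omega)
    have hv : ‖(χ : G → ℂ) (y ^ j)‖ ≤ 1 / 2 := by nlinarith [norm_nonneg ((χ : G → ℂ) (y ^ j))]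
    nlinarith [norm_nonneg ((χ : G → ℂ) (y ^ j))]
  by_contra hne
  have h1 := (H19.totient_le_sum_char (H12.isCharacter_irr χ) hn0 y (pow_orderOf_eq_one y) hne).trans
    (Finset.sum_le_sum hbd)
  rw [Finset.sum_const, H19.card_units', nsmul_eq_mul] at h1
  have : (0 : ℝ) < ((orderOf y).totient : ℝ) := by exact_mod_cast Nat.totient_pos.2 hn0
  linarith

end H15.PSubTwo
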