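import Cfsg.Agent.H15.PSubTwo.Bound

/-!
Degree `p - 2` (helper15): the quotient by the centre, its involutions and their centralisers.
-/

set_option autoImplicit false
set_option linter.style.haveILetI false
set_option linter.unusedSectionVars false

open Cfsg
open scoped ComplexConjugate

namespace H15.PSubTwo

open H85.D1 H15.HalfDeg

universe u

/-- The natural map to the quotient by the centre. -/
abbrev modC (G : Type u) [Group G] : G →* G ⧸ Subgroup.center G :=
  QuotientGroup.mk' (Subgroup.center G)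

theorem modC_eq_one_iff {G : Type u} [Group G] {g : G} : modC G g = 1 ↔ g ∈ Subgroup.center G :=
  QuotientGroup.eq_one_iff g

theorem modC_surjective {G : Type u} [Group G] : Function.Surjective (modC G) :=
  QuotientGroup.mk'_surjective _

/-- Sums over a group of functions of the image modulo the centre. -/
theorem sum_modC {G : Type u} [Group G] [Fintype G] [Fintype (G ⧸ Subgroup.center G)]
    {R : Type*} [NonAssocSemiring R] (f : G ⧸ Subgroup.center G → R) :
    ∑ g : G, f (modC G g) = (Nat.card (Subgroup.center G) : R) * ∑ c, f c := by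
  classical
  rw [← Finset.sum_fiberwise_of_maps_to (t := (Finset.univ : Finset (G ⧸ Subgroup.center G)))
    (g := modC G) fun g _ => Finset.mem_univ _, Finset.mul_sum]
  refine Finset.sum_congr rfl fun c _ => ?_
  rw [Finset.sum_congr rfl fun g hg => congrArg f (Finset.mem_filter.1 hg).2, Finset.sum_const,
    nsmul_eq_mul]
  congr 2
  obtain ⟨g₀, rfl⟩ := modC_surjective c
  rw [Nat.card_eq_fintype_card, ← Finset.card_univ]
  refine (Finset.card_bij (fun (k : Subgroup.center G) _ => g₀ * (k : G)) (fun k _ => ?_) ?_ ?_).symm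
  · rw [Finset.mem_filter, map_mul, modC_eq_one_iff.2 k.2, mul_one]
    exact ⟨Finset.mem_univ _, rfl⟩
  · exact fun k _ k' _ hk => Subtype.ext (mul_left_cancel hk)
  · intro g hg
    refine ⟨⟨g₀⁻¹ * g, QuotientGroup.eq.1 (Finset.mem_filter.1 hg).2.symm⟩, Finset.mem_univ _, ?_⟩
    rw [mul_inv_cancel_left]

open Classical in
/-- The squared absolute value of the character on a regular class modulo the centre. -/
noncomputable def wt {K : Type*} [Group K] (n : ℕ) (c : K) : ℕ :=
  if c = 1 then n * n else if orderOf c = 2 then 1 else 0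

variable {G : Type u} [Group G] [Fintype G] {p : ℕ} [hp : Fact p.Prime]
  {P : Sylow p G} {u a : G} {H : Subgroup G} [Fintype H] {D : Setting P u a H}
  [Fintype (D.aut (H12.oneIrr H))] {χ : IrrCharacter G} {θ : IrrCharacter H}
  {ψ : (P : Subgroup G) →* ℂˣ} {M : Ideal AlgInt} [hMp : M.IsPrime]

theorem mem_H_iff (hP : Perf D) {g : G} : modC G g = 1 ↔ g ∈ H := by
  rw [modC_eq_one_iff, hP.center_eq]

theorem regular_iff (hP : Perf D) {g : G} : ¬ p ∣ orderOf (modC G g) ↔ ¬ p ∣ orderOf g := by
  refine ⟨fun h hd => h ?_, fun h hd => h (hd.trans (orderOf_map_dvd _ g))⟩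
  have h1 : g ^ (orderOf (modC G g) * Nat.card H) = 1 := by
    have h2 : g ^ orderOf (modC G g) ∈ H := (mem_H_iff hP).1 (by rw [map_pow, pow_orderOf_eq_one])
    rw [pow_mul]
    exact congrArg Subtype.val (pow_card_eq_one' (x := (⟨_, h2⟩ : H)))
  rcases (hp.out.dvd_mul).1 (hd.trans (orderOf_dvd_of_pow_eq_one h1)) with h2 | h2
  · exact h2
  · exact absurd h2 D.frame.card_H

theorem orderOf_eq_two_iff' {K : Type*} [Group K] {c : K} :
    orderOf c = 2 ↔ c * c = 1 ∧ c ≠ 1 := by
  haveI : Fact (Nat.Prime 2) := ⟨Nat.prime_two⟩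
  constructor
  · intro h
    refine ⟨by rw [← pow_two, ← h, pow_orderOf_eq_one], fun h1 => ?_⟩
    rw [h1, orderOf_one] at h
    omega
  · rintro ⟨h1, h2⟩
    exact orderOf_eq_prime (by rw [pow_two]; exact h1) h2

theorem mul_conj_eq_wt (hP : Perf D) (h : Good D χ θ ψ) (hM : IsPModular p M) {g : G}
    (hg : ¬ p ∣ orderOf g) :
    (χ : G → ℂ) g * conj ((χ : G → ℂ) g) = (wt (p - 2) (modC G g) : ℂ) := by
  have hH := hP.toCtx.central_le
  rw [wt]
  by_cases h1 : modC G g = 1
  · rw [if_pos h1]
    have hgH : g ∈ H := (mem_H_iff hP).1 h1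
    rw [show g = ((⟨g, hgH⟩ : H) : G) from rfl, apply_center D hH hM h.mem_supp, h.degree_eq,
      map_mul, Complex.conj_natCast]
    have hn : (θ : H → ℂ) ⟨g, hgH⟩ * conj ((θ : H → ℂ) ⟨g, hgH⟩) = 1 := by
      rw [Complex.mul_conj, Complex.normSq_eq_norm_sq, norm_lin D hH θ _]; simp
    push_cast
    linear_combination ((p - 2 : ℕ) : ℂ) * ((p - 2 : ℕ) : ℂ) * hn
  rw [if_neg h1]
  have hgH : g ∉ H := fun hm => h1 ((mem_H_iff hP).2 hm)
  by_cases h2 : orderOf (modC G g) = 2
  · rw [if_pos h2]
    have h3 : g * g ∈ H := (mem_H_iff hP).1 (by rw [map_mul, (orderOf_eq_two_iff'.1 h2).1])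
    rw [Complex.mul_conj, Complex.normSq_eq_norm_sq, norm_of_sq_mem hP h hM hgH h3]
    simp
  · rw [if_neg h2, apply_eq_zero hP h hM hg fun h3 => h2 (orderOf_eq_two_iff'.2
      ⟨by rw [← map_mul, (mem_H_iff hP).2 h3], h1⟩)]
    simp

/-- The norm of the character on the full preimage of a `p'`-subgroup. -/
theorem exists_norm_comap (hP : Perf D) (h : Good D χ θ ψ) (hM : IsPModular p M)
    (C : Subgroup (G ⧸ Subgroup.center G)) [Fintype C] (hC : ∀ c ∈ C, ¬ p ∣ orderOf c) :
    ∃ m : ℕ, ∑ c : C, wt (p - 2) (c : G ⧸ Subgroup.center G) = Nat.card C * m := by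
  classical
  haveI : Fintype (G ⧸ Subgroup.center G) := Fintype.ofFinite _
  set B := C.comap (modC G) with hB
  have hmemB : ∀ g : G, g ∈ B ↔ modC G g ∈ C := fun g => Iff.rfl
  obtain ⟨m, hm⟩ := H12.IsCharacter.classInner_nat
    (H12.IsCharacter.res (H12.isCharacter_irr χ) B) (H12.IsCharacter.res (H12.isCharacter_irr χ) B)
  rw [H12.classInner_def, inv_mul_eq_iff_eq_mul₀ H12.card_ne_zero'] at hm
  have hsum : ∀ f : G ⧸ Subgroup.center G → ℕ, ∑ g : B, f (modC G (g : G)) =
      Nat.card (Subgroup.center G) * ∑ c : C, f c := by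
    intro f
    rw [← Finset.sum_subtype (Finset.univ.filter fun g : G => g ∈ B) (fun g => by simp)
      fun g => f (modC G g), Finset.sum_filter,
      ← Finset.sum_subtype (Finset.univ.filter fun c : G ⧸ Subgroup.center G => c ∈ C)
      (fun c => by simp) f, Finset.sum_filter]
    simp only [hmemB]
    exact sum_modC fun c => if c ∈ C then f c else 0
  have hcard : Nat.card B = Nat.card (Subgroup.center G) * Nat.card C := by
    have := hsum fun _ => 1
    simpa [Nat.card_eq_fintype_card] using this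
  rw [Finset.sum_congr rfl fun (g : B) _ => mul_conj_eq_wt hP h hM
    ((regular_iff hP).1 (hC _ ((hmemB g).1 g.2)))] at hm
  have h1 : ∑ g : B, wt (p - 2) (modC G (g : G)) = Nat.card B * m := by exact_mod_cast hm
  rw [hsum, hcard, mul_assoc] at h1
  exact ⟨m, Nat.eq_of_mul_eq_mul_left Nat.card_pos h1⟩

/-- No elements of order four modulo the centre. -/
theorem sq_eq_one_of_pow_four (hP : Perf D) (h : Good D χ θ ψ) (hM : IsPModular p M)
    {c : G ⧸ Subgroup.center G} (hc : (c * c) * (c * c) = 1) : c * c = 1 := by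
  obtain ⟨y, rfl⟩ := modC_surjective c
  rw [← map_mul, ← map_mul] at hc
  rw [← map_mul]
  by_contra hne
  have h5 := hP.five_lt
  have hy : ¬ p ∣ orderOf y := (regular_iff hP).1 fun hd => by
    have h4 : orderOf (modC G y) ∣ 4 := orderOf_dvd_of_pow_eq_one (by
      rw [← map_pow, show y ^ 4 = y * y * (y * y) by simp [pow_succ, mul_assoc], hc])
    have := Nat.le_of_dvd (by omega) (hd.trans h4)
    omega
  have hy2 : y * y ∉ H := fun hm => hne ((mem_H_iff hP).2 hm)
  obtain ⟨σ, hσ⟩ := exists_squares hP h hM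
  have h1 := square_eq hP h hM hσ hy
  have h2 := norm_of_sq_mem hP h hM hy2 ((mem_H_iff hP).1 hc)
  rw [apply_eq_zero hP h hM hy hy2] at h1
  have h3 : (χ : G → ℂ) (y * y) = 0 := by simpa using h1
  rw [h3, norm_zero] at h2
  exact zero_ne_one h2

/-- Elements commuting modulo the centre with an involution commute with it. -/
theorem commute_lift (hP : Perf D) (h : Good D χ θ ψ) (hM : IsPModular p M) {j w : G}
    (hj : j * j = 1) (hc : modC G w * modC G j = modC G j * modC G w) : w * j = j * w := by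
  set c := w * j * w⁻¹ * j⁻¹ with hcdef
  have hcH : c ∈ H := (mem_H_iff hP).1 (by
    rw [hcdef, map_mul, map_mul, map_mul, map_inv, map_inv, hc]; group)
  have hcomm := Subgroup.mem_center_iff.1 (hP.toCtx.central_le hcH)
  have hjinv : j⁻¹ = j := inv_eq_of_mul_eq_one_right hj
  have hcj : w * j * w⁻¹ = c * j := by rw [hcdef, inv_mul_cancel_right]
  have hc2 : c * c = 1 := by
    have h1 : (w * j * w⁻¹) * (w * j * w⁻¹) = 1 := by
      calc (w * j * w⁻¹) * (w * j * w⁻¹) = w * (j * j) * w⁻¹ := by group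
        _ = 1 := by rw [hj]; group
    rw [hcj] at h1
    calc c * c = c * c * (j * j) := by rw [hj, mul_one]
      _ = c * (c * j) * j := by group
      _ = c * (j * c) * j := by rw [hcomm j]
      _ = c * j * (c * j) := by group
      _ = 1 := h1
  have hc1 : c = 1 := by
    have h2 : orderOf (⟨c, hcH⟩ : H) ∣ 2 := orderOf_dvd_of_pow_eq_one (Subtype.ext (by
      rw [Subgroup.coe_pow, pow_two, hc2]; rfl))
    rcases (Nat.dvd_prime Nat.prime_two).1 h2 with h3 | h3
    · exact congrArg Subtype.val (orderOf_eq_one_iff.1 h3)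
    · exfalso
      have h4 := h3 ▸ orderOf_dvd_natCard (⟨c, hcH⟩ : H)
      exact (odd_card_center hP h hM).not_two_dvd_nat h4
  rw [hc1, one_mul] at hcj
  calc w * j = (w * j * w⁻¹) * w := by group
    _ = j * w := by rw [hcj]

theorem card_orderOf_two {K : Type*} [Group K] [Finite K] (x : K) (hx : 2 ∣ orderOf x)
    [Fintype (Subgroup.zpowers x)] [DecidableEq (Subgroup.zpowers x)] :
    (Finset.univ.filter fun c : Subgroup.zpowers x => orderOf c = 2).card = 1 := by
  rw [IsCyclic.card_orderOf_eq_totient]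
  · rw [Nat.totient_two]
  · rwa [← Nat.card_eq_fintype_card, Nat.card_zpowers]

theorem sum_wt {K : Type*} [Group K] (n : ℕ) (C : Subgroup K) [Fintype C] :
    ∑ c : C, wt n (c : K) = n * n + (Finset.univ.filter fun c : C => orderOf c = 2).card := by
  classical
  rw [← Finset.add_sum_erase _ _ (Finset.mem_univ (1 : C)), wt, OneMemClass.coe_one, if_pos rfl]
  congr 1
  rw [Finset.sum_congr rfl (g := fun c : C => if orderOf c = 2 then 1 else 0) fun c hc => by
    rw [wt, if_neg (fun h' : (c : K) = 1 => Finset.ne_of_mem_erase hc (Subtype.ext h')),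
      Subgroup.orderOf_coe]]
  rw [Finset.sum_erase _ (by simp), Finset.card_filter]

/-- The centralisers of involutions modulo the centre have exponent two. -/
theorem sq_of_commute (hP : Perf D) (h : Good D χ θ ψ) (hM : IsPModular p M)
    {t c : G ⧸ Subgroup.center G} (ht : orderOf t = 2) (hc : c * t = t * c) : c * c = 1 := by
  classical
  haveI : Finite (G ⧸ Subgroup.center G) := inferInstance
  have hcomm : ∀ i : ℕ, c ^ i * t = t * c ^ i := fun i => (Commute.pow_left (show Commute c t from hc) i).eq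
  by_contra hne
  obtain ⟨q, hq, hqd⟩ := Nat.exists_prime_and_dvd (n := orderOf (c * c)) fun h1 =>
    hne (orderOf_eq_one_iff.1 h1)
  haveI := Fact.mk hq
  set w := c ^ (orderOf c / q) with hw
  have hqc : q ∣ orderOf c := hqd.trans (by rw [← pow_two]; exact orderOf_pow_dvd 2)
  have hwo : orderOf w = q := orderOf_pow_orderOf_div (orderOf_pos c).ne' hqc
  have hq2 : q ≠ 2 := by
    rintro rfl
    set e := orderOf (c * c) / 2 with he
    set v := c ^ e with hv
    have hv2 : v * v = (c * c) ^ e := (Commute.mul_pow rfl e).symm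
    have h1 : orderOf (v * v) = 2 := by
      rw [hv2]; exact orderOf_pow_orderOf_div (orderOf_pos _).ne' hqd
    obtain ⟨h2, h3⟩ := orderOf_eq_two_iff'.1 h1
    exact h3 (sq_eq_one_of_pow_four hP h hM h2)
  have h5 := hP.five_lt
  obtain ⟨t₀, rfl⟩ := modC_surjective t
  obtain ⟨w₀, hw₀⟩ := modC_surjective w
  obtain ⟨ht2, ht1⟩ := orderOf_eq_two_iff'.1 ht
  have ht₀H : t₀ ∉ H := fun hm => ht1 ((mem_H_iff hP).2 hm)
  obtain ⟨j, k, hj, hjH, hjk⟩ := exists_involution hP h hM ht₀H
    ((mem_H_iff hP).1 (by rw [map_mul, ht2]))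
  have htj : modC G t₀ = modC G j := by
    rw [hjk, map_mul, (mem_H_iff hP).2 k.2, mul_one]
  have hwj : w₀ * j = j * w₀ := commute_lift hP h hM hj (by
    rw [hw₀, ← htj, hw]; exact hcomm _)
  by_cases hqp : q = p
  · have hd : p ∣ orderOf w₀ := by
      by_contra hd
      refine (regular_iff hP).2 hd ?_
      rw [hw₀, hwo, hqp]
    obtain ⟨x, hx, hx1, l, hl, hconj⟩ := D.exists_isConj_singular hd
    obtain ⟨g, hg⟩ := isConj_iff.1 hconj
    set j' := g * j * g⁻¹ with hj'
    have hcx : Commute j' x := by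
      have h1 : Commute j' (x * l) := by
        show j' * (x * l) = x * l * j'
        rw [← hg, hj']
        calc g * j * g⁻¹ * (g * w₀ * g⁻¹) = g * (j * w₀) * g⁻¹ := by group
          _ = g * (w₀ * j) * g⁻¹ := by rw [hwj]
          _ = _ := by group
      have h2 : Commute j' l⁻¹ :=
        Subgroup.mem_center_iff.1 (hP.toCtx.central_le (inv_mem hl)) j'
      simpa using h1.mul_right h2
    obtain ⟨y, hy, k', hk', hyk⟩ := D.exists_mul (D.centralizer_eq hx hx1 hcx)
    have hsq : y * k' * (y * k') = 1 := by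
      rw [← hyk, hj']
      calc g * j * g⁻¹ * (g * j * g⁻¹) = g * (j * j) * g⁻¹ := by group
        _ = 1 := by rw [hj]; group
    have hy2 : y * y = 1 := by
      have hyy : y * y = (k' * k')⁻¹ := by
        refine eq_inv_of_mul_eq_one_left ?_
        rw [← hsq, mul_assoc y k', ← mul_assoc k' y,
          ← Subgroup.mem_center_iff.1 (hP.toCtx.central_le hk') y]
        group
      by_contra hne'
      refine D.not_dvd_orderOf (inv_mem (mul_mem hk' hk')) ?_
      rw [← hyy]
      have h1 : orderOf (y * y) ∣ p := by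
        refine orderOf_dvd_of_pow_eq_one ?_
        have h2 := pow_card_eq_one' (G := (P : Subgroup G)) (x := ⟨y * y, mul_mem hy hy⟩)
        rw [D.hP] at h2
        exact congrArg Subtype.val h2
      rcases (Nat.dvd_prime hp.out).1 h1 with h2 | h2
      · exact absurd (orderOf_eq_one_iff.1 h2) hne'
      · rw [h2]
    have hy1 : y = 1 := by
      by_contra hy1
      have h1 : orderOf y ∣ 2 := orderOf_dvd_of_pow_eq_one (by rw [pow_two, hy2])
      have h2 : orderOf y ∣ p := by
        refine orderOf_dvd_of_pow_eq_one ?_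
        have h3 := pow_card_eq_one' (G := (P : Subgroup G)) (x := ⟨y, hy⟩)
        rw [D.hP] at h3
        exact congrArg Subtype.val h3
      rcases (Nat.dvd_prime hp.out).1 h2 with h3 | h3
      · exact hy1 (orderOf_eq_one_iff.1 h3)
      · rw [h3] at h1
        have := Nat.le_of_dvd two_pos h1
        omega
    refine hjH ?_
    have h4 : j = g⁻¹ * k' * g := by
      rw [show k' = y * k' by rw [hy1, one_mul], ← hyk, hj']
      group
    have h5' : g⁻¹ * k' * g = k' := by
      rw [mul_assoc, ← Subgroup.mem_center_iff.1 (hP.toCtx.central_le hk') g, inv_mul_cancel_left]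
    rw [h4, h5']
    exact hk'
  -- `q` divides `n²` and `n² + 1`
  haveI : Fintype (Subgroup.zpowers w) := Fintype.ofFinite _
  set v := w * modC G t₀ with hv
  haveI : Fintype (Subgroup.zpowers v) := Fintype.ofFinite _
  have hvo : orderOf v = q * 2 := by
    rw [hv, (show Commute w (modC G t₀) from hcomm _).orderOf_mul_eq_mul_orderOf_of_coprime, hwo, ht]
    rw [hwo, ht]
    exact (Nat.coprime_primes hq Nat.prime_two).2 hq2
  obtain ⟨m₁, hm₁⟩ := exists_norm_comap hP h hM (Subgroup.zpowers w) fun d hd hd' => by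
    have h1 := hd'.trans (orderOf_dvd_of_mem_zpowers hd)
    rw [hwo] at h1
    exact hqp ((Nat.prime_dvd_prime_iff_eq hp.out hq).1 h1).symm
  obtain ⟨m₂, hm₂⟩ := exists_norm_comap hP h hM (Subgroup.zpowers v) fun d hd hd' => by
    have h1 := hd'.trans (orderOf_dvd_of_mem_zpowers hd)
    rw [hvo] at h1
    rcases (hp.out.dvd_mul).1 h1 with h2 | h2
    · exact hqp ((Nat.prime_dvd_prime_iff_eq hp.out hq).1 h2).symm
    · have := Nat.le_of_dvd two_pos h2; omega
  rw [sum_wt, Nat.card_zpowers, hvo, card_orderOf_two v (hvo ▸ dvd_mul_left 2 q)] at hm₂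
  rw [sum_wt, Nat.card_zpowers, hwo, Finset.card_eq_zero.2 (Finset.filter_eq_empty_iff.2
    fun d _ hd => ?_), add_zero] at hm₁
  · have h1 : q ∣ (p - 2) * (p - 2) + 1 := ⟨2 * m₂, by rw [hm₂]; ring⟩
    have h2 : q ∣ (p - 2) * (p - 2) := ⟨m₁, hm₁⟩
    exact hq.not_dvd_one ((Nat.dvd_add_right h2).1 h1)
  · have h1 : orderOf d ∣ q := hwo ▸ (Subgroup.orderOf_coe d ▸ orderOf_dvd_of_mem_zpowers d.2)
    rw [hd] at h1
    exact hq2 ((Nat.prime_dvd_prime_iff_eq Nat.prime_two hq).1 h1).symm

/-- The counting of the involutions. -/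
theorem card_involutions (hP : Perf D) (h : Good D χ θ ψ) (hM : IsPModular p M)
    [Fintype (G ⧸ Subgroup.center G)] :
    2 * Nat.card (G ⧸ Subgroup.center G) = p * ((p - 2) * (p - 2) +
      (Finset.univ.filter fun c : G ⧸ Subgroup.center G => orderOf c = 2).card) := by
  classical
  haveI : Fintype (P : Subgroup G) := Fintype.ofFinite _
  have h5 := hP.five_lt
  have hH := hP.toCtx.central_le
  set N := (Finset.univ.filter fun c : (G ⧸ Subgroup.center G) => orderOf c = 2).card with hN
  have hsum := H19.sum_normSq_irr χ (H12.classInner_irr_self χ)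
  rw [← Finset.sum_filter_add_sum_filter_not Finset.univ (fun g : G => p ∣ orderOf g)] at hsum
  -- regular elements
  have hreg : ∑ g ∈ Finset.univ.filter (fun g : G => ¬ p ∣ orderOf g), ‖(χ : G → ℂ) g‖ ^ 2 =
      (Nat.card (Subgroup.center G) : ℝ) * ((((p - 2) * (p - 2) + N : ℕ)) : ℝ) := by
    rw [Finset.sum_filter, Finset.sum_congr rfl (g := fun g : G =>
      ((wt (p - 2) (modC G g) : ℕ) : ℝ)) fun g _ => ?_]
    · rw [sum_modC fun c : (G ⧸ Subgroup.center G) => ((wt (p - 2) c : ℕ) : ℝ), ← Nat.cast_sum]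
      congr 2
      haveI : Fintype (⊤ : Subgroup (G ⧸ Subgroup.center G)) := Fintype.ofFinite _
      rw [← Finset.add_sum_erase _ _ (Finset.mem_univ (1 : (G ⧸ Subgroup.center G))), wt, if_pos rfl,
        Finset.sum_congr rfl (g := fun c : (G ⧸ Subgroup.center G) => if orderOf c = 2 then 1 else 0) fun c hc => by
          rw [wt, if_neg (Finset.ne_of_mem_erase hc)],
        Finset.sum_erase _ (by simp), hN, Finset.card_filter]
    · by_cases hg : p ∣ orderOf g
      swap
      · rw [if_pos hg]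
        have h1 := congrArg Complex.re (mul_conj_eq_wt hP h hM hg)
        rw [Complex.mul_conj, Complex.ofReal_re, Complex.normSq_eq_norm_sq, Complex.natCast_re] at h1
        exact h1
      · rw [if_neg (not_not.2 hg)]
        have h1 : ¬ ¬ p ∣ orderOf (modC G g) := fun hr => (regular_iff hP).1 hr hg
        rw [not_not] at h1
        rw [wt, if_neg fun he => ?_, if_neg fun he => ?_, Nat.cast_zero]
        · rw [he] at h1
          have := Nat.le_of_dvd two_pos h1; omega
        · rw [he, orderOf_one] at h1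
          exact hp.out.not_dvd_one h1
  -- singular elements
  have hsing := sum_singular D hH (F := fun g => ‖(χ : G → ℂ) g‖ ^ 2)
    (fun g t => by rw [H12.irr_isClassFunction χ g t]) fun x hx hx1 k => by
      rw [central_mul D hH hM h.mem_supp x k, norm_mul, norm_lin D hH θ k, one_mul]
  have hψψ : ψ * ψ ≠ 1 := fun he => h.psi_ne (MonoidHom.ext fun x => by
    have h2 : (ψ x) ^ 2 = 1 := by rw [pow_two]; exact DFunLike.congr_fun he x
    have hxp := pow_card_eq_one' (G := (P : Subgroup G)) (x := x)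
    rw [D.hP] at hxp
    have h3 : (ψ x) ^ p = 1 := by rw [← map_pow, hxp, map_one]
    have h4 := (pow_gcd_eq_one (a := ψ x)).2 ⟨h2, h3⟩
    rwa [(Nat.coprime_two_left.2 (hp.out.odd_of_ne_two (by omega)) : Nat.gcd 2 p = 1), pow_one]
      at h4)
  have hS : ∑ x ∈ Finset.univ.erase (1 : (P : Subgroup G)), ‖(χ : G → ℂ) x‖ ^ 2 =
      2 * (p : ℝ) - 4 := by
    have e : ∀ x ∈ Finset.univ.erase (1 : (P : Subgroup G)),
        ((‖(χ : G → ℂ) x‖ ^ 2 : ℝ) : ℂ) = per (ψ * ψ) x + per (1 : _ →* ℂˣ) x := fun x hx => by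
      rw [← Complex.normSq_eq_norm_sq, ← Complex.mul_conj, h.val x (Finset.ne_of_mem_erase hx),
        map_neg, conj_per, neg_mul_neg, per_mul,
        show ψ * ψ⁻¹ = 1 from MonoidHom.ext fun y => by simp]
    have h1 : ((∑ x ∈ Finset.univ.erase (1 : (P : Subgroup G)), ‖(χ : G → ℂ) x‖ ^ 2 : ℝ) : ℂ) =
        ((2 * (p : ℝ) - 4 : ℝ) : ℂ) := by
      rw [Complex.ofReal_sum, Finset.sum_congr rfl e, Finset.sum_add_distrib, sum_per hψψ,
        sum_per_one, D.hP]
      push_cast; ring
    exact_mod_cast h1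
  rw [hS, hP.card_aut] at hsing
  have hcard : Nat.card G = Nat.card (Subgroup.center G) * Nat.card (G ⧸ Subgroup.center G) := by
    rw [← Subgroup.index_eq_card, (Subgroup.center G).card_mul_index]
  rw [hreg] at hsum
  push_cast at hsing hsum
  have hG : (Nat.card G : ℝ) = (Nat.card (Subgroup.center G) : ℝ) * Nat.card (G ⧸ Subgroup.center G) := by
    exact_mod_cast hcard
  have hmain : (2 : ℝ) * Nat.card (G ⧸ Subgroup.center G) = (p : ℝ) * (((p - 2 : ℕ) : ℝ) * ((p - 2 : ℕ) : ℝ) + N) := by
    refine mul_left_cancel₀ (Nat.cast_ne_zero.2 (Nat.card_pos (α := Subgroup.center G)).ne') ?_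
    rw [hG] at hsing hsum
    linear_combination -(p : ℝ) * hsum + hsing / 2
  have hnat : 2 * Nat.card (G ⧸ Subgroup.center G) = p * ((p - 2) * (p - 2) + N) := by exact_mod_cast hmain
  exact hnat

end H15.PSubTwo
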