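import Cfsg.Agent.H15.PSubTwo.Reduce
import Cfsg.Agent.H15.HalfDeg.Blocks
import Cfsg.Agent.H18.WedgeChar
import Cfsg.Agent.H25.Galois

/-!
Degree `p - 2` (helper15): the exterior square of a character of degree `p - 2` lies in one block
and expresses it by a Galois conjugate.
-/

set_option autoImplicit false
set_option linter.style.haveILetI false
set_option linter.unusedSectionVars false

open Cfsg
open scoped ComplexConjugate

namespace H15.PSubTwo

open H85.D1 H15.HalfDeg

universe u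

variable {G : Type u} [Group G] [Fintype G] {p : ℕ} [hp : Fact p.Prime]
  {P : Sylow p G} {u a : G} {H : Subgroup G} [Fintype H] {D : Setting P u a H}
  [Fintype (D.aut (H12.oneIrr H))] {χ : IrrCharacter G} {θ : IrrCharacter H}
  {ψ : (P : Subgroup G) →* ℂˣ} {M : Ideal AlgInt} [hMp : M.IsPrime]

/-- A perfect group with a faithful character of degree `p - 2`. -/
structure Perf (D : Setting P u a H) [Fintype (D.aut (H12.oneIrr H))] : Prop extends Ctx D where
  not_normal : ¬ (P : Subgroup G).Normal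
  perfect : ∀ l : G →* ℂˣ, l = 1

theorem Ctx.central_le (hc : Ctx D) : H ≤ Subgroup.center G := hc.center_eq.le

/-- Values of the central label. -/
theorem Good.theta_pow (hP : Perf D) (h : Good D χ θ ψ) (hM : IsPModular p M) (k : H) :
    (θ : H → ℂ) k ^ (p - 2) = 1 := by
  obtain ⟨n, ρ, hρi, he⟩ := χ.2
  haveI := hρi
  have hn : n = p - 2 := by
    rw [← h.degree_eq, ← he, H12.degree_character]; simp
  have hcomm : ∀ g : G, ρ k * ρ g = ρ g * ρ k := fun g => by
    rw [← map_mul, ← map_mul, Subgroup.mem_center_iff.1 (hP.toCtx.central_le k.2) g]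
  obtain ⟨c, hc⟩ := H12.exists_scalar_of_commute ρ (ρ k) hcomm
  have h1 := apply_center D hP.toCtx.central_le hM h.mem_supp k
  rw [h.degree_eq, ← he, show ρ.character (k : G) = LinearMap.trace ℂ _ (ρ k) from rfl, hc,
    map_smul, LinearMap.trace_one, Module.finrank_fintype_fun_eq_card, Fintype.card_fin,
    smul_eq_mul, ← hn] at h1
  have hn0 : (n : ℂ) ≠ 0 := Nat.cast_ne_zero.2 (by have := hP.five_lt; omega)
  rw [← hn, ← mul_right_cancel₀ hn0 h1]
  let δ : G →* ℂˣ := ((LinearMap.det : Module.End ℂ (Fin n → ℂ) →* ℂ).comp ρ).toHomUnits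
  have h2 : ((δ k : ℂˣ) : ℂ) = 1 := by rw [hP.perfect δ]; simp
  rw [show ((δ k : ℂˣ) : ℂ) = LinearMap.det (ρ k) from rfl, hc, LinearMap.det_smul,
    map_one, mul_one, Module.finrank_fintype_fun_eq_card, Fintype.card_fin] at h2
  exact h2

/-- The centre has odd order. -/
theorem odd_card_center (hP : Perf D) (h : Good D χ θ ψ) (hM : IsPModular p M) :
    Odd (Nat.card H) := by
  rw [Nat.odd_iff, ← Nat.two_dvd_ne_zero]
  intro hd
  haveI : Fact (Nat.Prime 2) := ⟨Nat.prime_two⟩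
  obtain ⟨k, hk⟩ := exists_prime_orderOf_dvd_card' 2 hd
  have hH := hP.toCtx.central_le
  obtain ⟨l, hl⟩ := H12.exists_monoidHom_of_apply_one_eq_one (H12.isCharacter_irr θ)
    (lin_one D hH θ)
  have h1 : k ^ (p - 2) = 1 := by
    refine Subtype.ext (h.faithful _ ?_)
    rw [apply_center D hH hM h.mem_supp, H12.irr_apply_one, ← congrFun hl, map_pow,
      Units.val_pow_eq_pow_val, congrFun hl, h.theta_pow hP hM, one_mul]
  have h2 := orderOf_dvd_of_pow_eq_one h1
  rw [hk] at h2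
  have h5 := hP.five_lt
  have hodd : Odd p := hp.out.odd_of_ne_two (by omega)
  rw [Nat.odd_iff] at hodd
  omega

/-- The field automorphism squaring the roots of unity of order `|H|`. -/
def Squares (σ : ℂ ≃+* ℂ) (H : Subgroup G) : Prop := ∀ z : ℂ, z ^ Nat.card H = 1 → σ z = z ^ 2

theorem exists_squares (hP : Perf D) (h : Good D χ θ ψ) (hM : IsPModular p M) :
    ∃ σ : ℂ ≃+* ℂ, Squares σ H :=
  H25.exists_ringEquiv_pow_rootOfUnity (Nat.card H) 2 Nat.card_pos
    ((Nat.coprime_two_left).2 (odd_card_center hP h hM))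

theorem Squares.apply_theta {σ : ℂ ≃+* ℂ} (hσ : Squares σ H) (hP : Perf D) (θ : IrrCharacter H)
    (k : H) : σ ((θ : H → ℂ) k) = (θ : H → ℂ) k ^ 2 := by
  obtain ⟨l, hl⟩ := H12.exists_monoidHom_of_apply_one_eq_one (H12.isCharacter_irr θ)
    (lin_one D hP.toCtx.central_le θ)
  refine hσ _ ?_
  rw [← congrFun hl, ← Units.val_pow_eq_pow_val, ← map_pow, pow_card_eq_one', map_one,
    Units.val_one]

theorem exists_conjugate (h : Good D χ θ ψ) (σ : ℂ ≃+* ℂ) :
    ∃ χ' : IrrCharacter G, (χ' : G → ℂ) = σ ∘ (χ : G → ℂ) ∧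
      H12.degree (χ' : G → ℂ) = p - 2 ∧
      ∀ g : G, (χ' : G → ℂ) g = (χ' : G → ℂ) 1 → g = 1 := by
  refine ⟨⟨σ ∘ (χ : G → ℂ), H25.isIrrCharacter_ringEquiv_comp χ.2 σ⟩, rfl, ?_, fun g hg => ?_⟩
  · have h1 : ((H12.degree (σ ∘ (χ : G → ℂ)) : ℕ) : ℂ) = ((p - 2 : ℕ) : ℂ) := by
      rw [← H12.IsCharacter.apply_one_eq_degree
        (H25.isCharacter_ringEquiv_comp (H12.isCharacter_irr χ) σ), Function.comp_apply,
        H12.irr_apply_one, h.degree_eq, map_natCast]
    exact_mod_cast h1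
  · exact h.faithful g (σ.injective hg)

/-- The sum over `P` in the comparison of two exceptional characters. -/
theorem sum_diff {A : Type*} [Group A] [Fintype A] [DecidableEq A] {η ξ : A →* ℂˣ} (hη : η ≠ 1)
    (hηη : η * η ≠ 1) (hξ : ξ ≠ 1) (h1 : η * ξ ≠ 1) (h2 : η * ξ⁻¹ ≠ 1) :
    ∑ x ∈ Finset.univ.erase (1 : A), (per η x + 1) * (per η x - per ξ x) =
      2 * (Nat.card A : ℂ) := by
  have e : ∀ x : A, (per η x + 1) * (per η x - per ξ x) =
      per (η * η) x + per (1 : A →* ℂˣ) x + per η x - per (η * ξ) x - per (η * ξ⁻¹) x - per ξ x := by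
    intro x
    have e1 := per_mul η η x
    rw [show η * η⁻¹ = 1 from MonoidHom.ext fun y => by simp] at e1
    have e2 := per_mul η ξ x
    linear_combination e1 - e2
  rw [Finset.sum_congr rfl fun x _ => e x]
  simp only [Finset.sum_sub_distrib, Finset.sum_add_distrib]
  rw [sum_per hη, sum_per hηη, sum_per hξ, sum_per h1, sum_per h2, sum_per_one]
  ring

/-- The square of `χ`. -/
theorem square_eq (hP : Perf D) (h : Good D χ θ ψ) (hM : IsPModular p M) {σ : ℂ ≃+* ℂ}
    (hσ : Squares σ H) {y : G} (hy : ¬ p ∣ orderOf y) :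
    (χ : G → ℂ) y * (χ : G → ℂ) y - (χ : G → ℂ) (y * y) = ((p : ℂ) - 3) * σ ((χ : G → ℂ) y) := by
  classical
  haveI : Fintype (P : Subgroup G) := Fintype.ofFinite _
  have h5 := hP.five_lt
  have hodd : Odd p := hp.out.odd_of_ne_two (by omega)
  have hH := hP.toCtx.central_le
  obtain ⟨χ', hχ', hdeg', hf'⟩ := exists_conjugate h σ
  obtain ⟨-, θ', ψ', h'⟩ := reduce D hM hP.five_lt hP.not_normal χ' hdeg' hf'
  have hθ' : ∀ k : H, (θ' : H → ℂ) k = (θ : H → ℂ) k * (θ : H → ℂ) k := by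
    intro k
    have h1 := apply_center D hH hM h'.mem_supp k
    rw [hdeg', hχ', Function.comp_apply, apply_center D hH hM h.mem_supp k, h.degree_eq, map_mul,
      map_natCast, hσ.apply_theta hP] at h1
    rw [← mul_right_cancel₀ (Nat.cast_ne_zero.2 (by omega)) h1, pow_two]
  haveI : Fintype (D.aut θ') := Fintype.ofFinite _
  obtain ⟨S⟩ := D.exists_shape hM θ'
  obtain ⟨hχ'Y, hε⟩ := h'.shape S
  have hsupp : ∀ i ∈ S.Y, i ∈ D.supp θ' := fun i hi => (D.union_eq_supp S).subset (Or.inr hi)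
  have hreg : ∀ i ∈ S.Y, ∀ g : G, ¬ p ∣ orderOf g → (i : G → ℂ) g = σ ((χ : G → ℂ) g) :=
    fun i hi g hg => by
      rw [show (i : G → ℂ) g = (χ' : G → ℂ) g from congrFun (S.regY i hi χ' hχ'Y) ⟨g, hg⟩, hχ']
      rfl
  have hone : ¬ p ∣ orderOf (1 : G) := by simp [hp.out.ne_one]
  have hval : ∀ i ∈ S.Y, ∃ ξ : (P : Subgroup G) →* ℂˣ, ξ ≠ 1 ∧
      ∀ x : (P : Subgroup G), x ≠ 1 → D.col θ' i x = -per ξ x := by
    intro i hi
    obtain ⟨ξ, hξ, hcol⟩ := S.colY i hi
    refine ⟨ξ, hξ, fun x hx => ?_⟩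
    rw [hcol x hx, hε, sum_aut_eq D hH θ' (fun α => (ξ (α x) : ℂ)), Ctx.sum_aut hP.card_aut]
    simp
  set η : (P : Subgroup G) →* ℂˣ := ψ * ψ with hη
  have hPpow : ∀ x : (P : Subgroup G), x ^ p = 1 := fun x => by
    have := pow_card_eq_one' (G := (P : Subgroup G)) (x := x)
    rwa [D.hP] at this
  have hroot : ∀ (ξ : (P : Subgroup G) →* ℂˣ), ξ * ξ = 1 → ξ = 1 := fun ξ he =>
    MonoidHom.ext fun x => by
      have h2 : (ξ x) ^ 2 = 1 := by rw [pow_two]; exact DFunLike.congr_fun he x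
      have h3 : (ξ x) ^ p = 1 := by rw [← map_pow, hPpow, map_one]
      have h4 := (pow_gcd_eq_one (a := ξ x)).2 ⟨h2, h3⟩
      rwa [(Nat.coprime_two_left.2 hodd : Nat.gcd 2 p = 1), pow_one] at h4
  have hη1 : η ≠ 1 := fun he => h.psi_ne (hroot ψ he)
  have hηη : η * η ≠ 1 := fun he => hη1 (hroot η he)
  obtain ⟨η₀, hη₀, hcol₀⟩ := S.surjY η hη1
  have hcol₀' : ∀ x : (P : Subgroup G), x ≠ 1 → D.col θ' η₀ x = -per η x := fun x hx => by
    rw [hcol₀ x hx, hε, sum_aut_eq D hH θ' (fun α => (η (α x) : ℂ)), Ctx.sum_aut hP.card_aut]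
    simp
  -- the exterior square
  set F : G → ℂ := fun g => ((χ : G → ℂ) g * (χ : G → ℂ) g - (χ : G → ℂ) (g * g)) / 2 with hF
  have hFc : IsCharacter G F := H18.isCharacter_wedge (H12.isCharacter_irr χ)
  have hFx : ∀ x : (P : Subgroup G), x ≠ 1 → ∀ k : H,
      F (x * k) = (θ' : H → ℂ) k * (per η x + 1) := by
    intro x hx k
    have hx2 : x * x ≠ 1 := fun he => hx (by
      have h2 : x ^ 2 = 1 := by rw [pow_two, he]
      have h4 := (pow_gcd_eq_one (a := x)).2 ⟨h2, hPpow x⟩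
      rwa [(Nat.coprime_two_left.2 hodd : Nat.gcd 2 p = 1), pow_one] at h4)
    have hkk : ((x : G) * (k : G)) * ((x : G) * (k : G)) = ((x * x : (P : Subgroup G)) : G) * ((k * k : H) : G) := by
      push_cast
      rw [mul_assoc (x : G), ← mul_assoc (k : G), ← Subgroup.mem_center_iff.1 (hH k.2) (x : G)]
      group
    simp only [hF]
    rw [hkk, central_mul D hH hM h.mem_supp, central_mul D hH hM h.mem_supp, h.val x hx,
      h.val _ hx2]
    obtain ⟨l, hl⟩ := H12.exists_monoidHom_of_apply_one_eq_one (H12.isCharacter_irr θ)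
      (lin_one D hH θ)
    have hmul : (θ : H → ℂ) (k * k) = (θ : H → ℂ) k * (θ : H → ℂ) k := by
      rw [← congrFun hl, ← congrFun hl, map_mul, Units.val_mul]
    have hpp : per ψ (x * x) = per η x := by simp [per, hη]
    have hp2 := per_mul ψ ψ x
    rw [← hη, show ψ * ψ⁻¹ = 1 from MonoidHom.ext fun y => by simp] at hp2
    rw [show per (1 : (P : Subgroup G) →* ℂˣ) x = 2 by norm_num [per]] at hp2
    rw [hmul, hpp, hθ' k]
    linear_combination ((θ : H → ℂ) k * (θ : H → ℂ) k / 2) * hp2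
  have hdiff : ∀ i ∈ S.Y, i ≠ η₀ →
      classInner F (i : G → ℂ) - classInner F (η₀ : G → ℂ) = 1 := by
    intro i hi hne
    obtain ⟨ξ, hξ, hcol⟩ := hval i hi
    have heq : ∀ c : (P : Subgroup G) →* ℂˣ, (∀ x, per c x = per η x) → c ≠ ξ := by
      intro c hc hcξ
      refine hne (D.eq_of_col hM (hsupp i hi) (hsupp η₀ hη₀)
        (fun g hg => (hreg i hi g hg).trans (hreg η₀ hη₀ g hg).symm) fun x hx hx1 => ?_)
      have hx' : (⟨x, hx⟩ : (P : Subgroup G)) ≠ 1 := fun h' => hx1 (congrArg Subtype.val h')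
      rw [show D.col θ' i x = _ from hcol ⟨x, hx⟩ hx', show D.col θ' η₀ x = _ from hcol₀' ⟨x, hx⟩ hx',
        ← hcξ, hc]
    have h1 : η * ξ ≠ 1 := fun he => heq η⁻¹ (fun x => by
      simp only [per, MonoidHom.inv_apply, inv_inv]; ring) (MonoidHom.ext fun x => by
      rw [MonoidHom.inv_apply]
      exact inv_eq_of_mul_eq_one_right (DFunLike.congr_fun he x))
    have h2 : η * ξ⁻¹ ≠ 1 := fun he => heq η (fun x => rfl) (MonoidHom.ext fun x => by
      have := DFunLike.congr_fun he x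
      rw [MonoidHom.mul_apply, MonoidHom.inv_apply, MonoidHom.one_apply, mul_inv_eq_one] at this
      exact this)
    obtain ⟨m₁, hm₁⟩ := H12.IsCharacter.classInner_nat hFc (H12.isCharacter_irr i)
    obtain ⟨m₂, hm₂⟩ := H12.IsCharacter.classInner_nat hFc (H12.isCharacter_irr η₀)
    set R : G → ℝ := fun g => (F g * conj ((i : G → ℂ) g - (η₀ : G → ℂ) g)).re with hR
    have hRc : ∀ g t : G, R (t * g * t⁻¹) = R g := fun g t => by
      simp only [hR]
      rw [H12.IsCharacter.isClassFunction hFc g t, H12.irr_isClassFunction i g t,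
        H12.irr_isClassFunction η₀ g t]
    have hRx : ∀ x : (P : Subgroup G), x ≠ 1 → ∀ k : H,
        R (x * k) = ((per η x + 1) * (per η x - per ξ x)).re := fun x hx k => by
      have hx1 : (x : G) ≠ 1 := fun h' => hx (Subtype.ext h')
      have hn1 : (θ' : H → ℂ) k * conj ((θ' : H → ℂ) k) = 1 := by
        rw [Complex.mul_conj, Complex.normSq_eq_norm_sq, norm_lin D hH θ' k]; simp
      simp only [hR]
      congr 1
      rw [hFx x hx k, apply_mul D hH hM (hsupp i hi) x.2 hx1 k,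
        apply_mul D hH hM (hsupp η₀ hη₀) x.2 hx1 k, hcol x hx, hcol₀' x hx, ← sub_mul, map_mul,
        map_sub, map_neg, map_neg, conj_per, conj_per]
      linear_combination ((per η x + 1) * (per η x - per ξ x)) * hn1
    have hsing := sum_singular D hH hRc fun x hx hx1 k => by
      have e1 := hRx ⟨x, hx⟩ (fun h' => hx1 (congrArg Subtype.val h')) k
      have e2 := hRx ⟨x, hx⟩ (fun h' => hx1 (congrArg Subtype.val h')) 1
      rw [OneMemClass.coe_one, mul_one] at e2
      exact e1.trans e2.symm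
    have hS : ∑ x ∈ Finset.univ.erase (1 : (P : Subgroup G)), R (x : G) = 2 * (p : ℝ) := by
      have e3 : ∀ x ∈ Finset.univ.erase (1 : (P : Subgroup G)),
          R (x : G) = ((per η x + 1) * (per η x - per ξ x)).re := fun x hx => by
        have e2 := hRx x (Finset.ne_of_mem_erase hx) 1
        rw [OneMemClass.coe_one, mul_one] at e2
        exact e2
      rw [Finset.sum_congr rfl e3, ← Complex.re_sum, sum_diff hη1 hηη hξ h1 h2, D.hP]
      simp
    rw [hS, hP.card_aut] at hsing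
    have hall : ∑ g : G, R g = (Nat.card G : ℝ) * ((m₁ : ℝ) - m₂) := by
      simp only [hR, ← Complex.re_sum, map_sub, mul_sub, Finset.sum_sub_distrib,
        H12.sum_mul_conj_eq_card_mul, hm₁, hm₂]
      simp
    rw [← Finset.sum_filter_add_sum_filter_not Finset.univ (fun g : G => p ∣ orderOf g),
      Finset.sum_eq_zero (s := Finset.univ.filter fun g : G => ¬ p ∣ orderOf g) fun g hg => by
        have hg' := (Finset.mem_filter.1 hg).2
        simp only [hR, hreg i hi g hg', hreg η₀ hη₀ g hg', sub_self, map_zero, mul_zero,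
          Complex.zero_re], add_zero] at hall
    rw [hall] at hsing
    push_cast at hsing
    have h3 : (m₁ : ℝ) - m₂ = 1 := by
      have hG : (Nat.card G : ℝ) ≠ 0 := Nat.cast_ne_zero.2 Nat.card_pos.ne'
      have hp0 : (p : ℝ) ≠ 0 := Nat.cast_ne_zero.2 hp.out.ne_zero
      exact mul_left_cancel₀ (mul_ne_zero hG hp0) (by linear_combination hsing / 2)
    rw [hm₁, hm₂]
    exact_mod_cast congrArg (fun r : ℝ => (r : ℂ)) h3
  -- the decomposition
  set s := S.Y.toFinset.erase η₀ with hs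
  have hsY : ∀ i ∈ s, i ∈ S.Y ∧ i ≠ η₀ := fun i hi => by
    rw [hs, Finset.mem_erase, Set.mem_toFinset] at hi
    exact hi.symm
  have hne : ∀ i ∈ s, classInner F (i : G → ℂ) ≠ 0 := fun i hi h0 => by
    obtain ⟨m, hm⟩ := H12.IsCharacter.classInner_nat hFc (H12.isCharacter_irr η₀)
    have h1 := hdiff i (hsY i hi).1 (hsY i hi).2
    rw [h0, hm] at h1
    have h2 : ((m + 1 : ℕ) : ℂ) = ((0 : ℕ) : ℂ) := by push_cast; linear_combination -h1
    exact Nat.succ_ne_zero m (by exact_mod_cast h2)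
  have hscard : 2 * s.card + 3 = p := by
    have h1 := S.card_Y
    rw [show Nat.card (D.aut θ') = 2 by rw [aut_eq D hH θ', hP.card_aut],
      Nat.card_eq_card_toFinset] at h1
    rw [hs, Finset.card_erase_of_mem (Set.mem_toFinset.2 hη₀)]
    have h2 : 0 < S.Y.toFinset.card := Finset.card_pos.2 ⟨η₀, Set.mem_toFinset.2 hη₀⟩
    omega
  have hdegs : ∀ i ∈ s, H12.degree (i : G → ℂ) = p - 2 := fun i hi => by
    have h1 := hreg i (hsY i hi).1 1 hone
    rw [H12.irr_apply_one, H12.irr_apply_one, h.degree_eq, map_natCast] at h1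
    exact_mod_cast h1
  have hF1 : F 1 = ((s.card * (p - 2) : ℕ) : ℂ) := by
    simp only [hF, mul_one, H12.irr_apply_one, h.degree_eq]
    rw [show p - 2 = 2 * s.card + 1 by omega]
    push_cast
    ring
  obtain ⟨-, hdec⟩ := sum_degree_le hFc s hne hF1
  have hy' := hdec (by rw [Finset.sum_congr rfl hdegs, Finset.sum_const, smul_eq_mul]) y
  rw [Finset.sum_congr rfl fun i hi => hreg i (hsY i hi).1 y hy, Finset.sum_const,
    nsmul_eq_mul] at hy'
  simp only [hF] at hy'
  rw [show (p : ℂ) = ((2 * s.card + 3 : ℕ) : ℂ) by rw [hscard]]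
  push_cast
  linear_combination 2 * hy'

end H15.PSubTwo
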