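import Cfsg.Agent.H15.PSubTwo.Quotient
import Cfsg.Agent.H67.CAIdent
import Cfsg.Agent.H37.Card
import Cfsg.Agent.H39.SL2Multiplier
import Cfsg.Agent.H65.Counting

/-!
Degree `p - 2` (helper15): a perfect group with a faithful character of degree `p - 2` is
`SL(2, p - 1)`.
-/

set_option autoImplicit false
set_option linter.style.haveILetI false
set_option linter.unusedSectionVars false

open Cfsg
open scoped ComplexConjugate MatrixGroups

namespace H15.PSubTwo

open H85.D1 H15.HalfDeg

universe u

/-- Without non-trivial linear characters the group is perfect. -/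
theorem commutator_eq_top_of_lin {A : Type*} [Group A] [Finite A] (h : ∀ l : A →* ℂˣ, l = 1) :
    commutator A = ⊤ := by
  refine top_le_iff.1 fun x _ => ?_
  by_contra hx
  obtain ⟨φ, hφ⟩ := CommGroup.exists_apply_ne_one_of_hasEnoughRootsOfUnity (Abelianization A) ℂ
    (a := Abelianization.of x) fun h' => hx (by
      rw [← Abelianization.ker_of]; exact h')
  exact hφ (DFunLike.congr_fun (h (φ.comp Abelianization.of)) x)

variable {G : Type u} [Group G] [Fintype G] {p : ℕ} [hp : Fact p.Prime]
  {P : Sylow p G} {u a : G} {H : Subgroup G} [Fintype H] {D : Setting P u a H}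
  [Fintype (D.aut (H12.oneIrr H))] {χ : IrrCharacter G} {θ : IrrCharacter H}
  {ψ : (P : Subgroup G) →* ℂˣ} {M : Ideal AlgInt} [hMp : M.IsPrime]

theorem pow_p_eq_one (D : Setting P u a H) {x : G} (hx : x ∈ (P : Subgroup G)) : x ^ p = 1 := by
  have h := pow_card_eq_one' (G := (P : Subgroup G)) (x := ⟨x, hx⟩)
  rw [D.hP] at h
  exact congrArg Subtype.val h

theorem modC_u_orderOf (hP : Perf D) : orderOf (modC G u) = p := by
  refine orderOf_eq_prime (by rw [← map_pow, pow_p_eq_one D D.u_mem, map_one]) fun h => ?_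
  refine D.not_dvd_orderOf ((mem_H_iff hP).1 h) ?_
  rw [D.frame.orderOf_u]

/-- The order modulo the centre is even. -/
theorem two_dvd_card (hP : Perf D) : 2 ∣ Nat.card (G ⧸ Subgroup.center G) := by
  obtain ⟨α, -, hinv, -⟩ := Ctx.exists_inv_aut (D := D) hP.card_aut
  obtain ⟨t, -, ht⟩ := D.mem_aut_iff.1 α.2
  have htu : t * u * t⁻¹ = u⁻¹ := by
    have := ht ⟨u, D.u_mem⟩
    rw [hinv, Subgroup.coe_inv] at this
    exact this.symm
  refine dvd_trans ?_ (orderOf_dvd_natCard (modC G t))
  by_contra hodd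
  set m := orderOf (modC G t) with hm
  have hconj : ∀ k : ℕ, t ^ k * u * (t ^ k)⁻¹ = if Even k then u else u⁻¹ := by
    intro k
    induction k with
    | zero => simp
    | succ k ih =>
      rw [pow_succ', mul_inv_rev, show t * t ^ k * u * ((t ^ k)⁻¹ * t⁻¹) =
        t * (t ^ k * u * (t ^ k)⁻¹) * t⁻¹ by group, ih]
      rcases Nat.even_or_odd k with hk | hk
      · rw [if_pos hk, if_neg (by simp [parity_simps, hk]), htu]
      · rw [if_neg (Nat.not_even_iff_odd.2 hk), if_pos (by simp [parity_simps, hk]), ← conj_inv,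
          htu, inv_inv]
  have h1 := hconj m
  have hmem : t ^ m ∈ Subgroup.center G :=
    modC_eq_one_iff.1 (by rw [map_pow, hm, pow_orderOf_eq_one])
  rw [if_neg (by rw [Nat.even_iff]; omega), ← Subgroup.mem_center_iff.1 hmem u, mul_inv_cancel_right]
    at h1
  have h2 : orderOf u ∣ 2 := orderOf_dvd_of_pow_eq_one (by
    rw [pow_two]; nth_rewrite 1 [h1]; exact inv_mul_cancel u)
  rw [D.frame.orderOf_u] at h2
  have := Nat.le_of_dvd two_pos h2
  have := hP.five_lt
  omega

theorem sq_eq_one_of_two_pow (hP : Perf D) (h : Good D χ θ ψ) (hM : IsPModular p M) (k : ℕ)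
    {c : G ⧸ Subgroup.center G} (hc : c ^ 2 ^ k = 1) : c * c = 1 := by
  induction k generalizing c with
  | zero => rw [pow_zero, pow_one] at hc; rw [hc, mul_one]
  | succ k ih =>
    refine sq_eq_one_of_pow_four hP h hM (ih ?_)
    rw [← pow_two, ← pow_mul, ← pow_succ']
    exact hc

/-- The hypotheses of the recognition theorem. -/
theorem caData (hP : Perf D) (h : Good D χ θ ψ) (hM : IsPModular p M)
    (T : Sylow 2 (G ⧸ Subgroup.center G)) : H67.CAData T := by
  classical
  haveI : Fact (Nat.Prime 2) := ⟨Nat.prime_two⟩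
  have h5 := hP.five_lt
  have hperfK : ∀ l : G ⧸ Subgroup.center G →* ℂˣ, l = 1 := fun l =>
    MonoidHom.ext fun c => by
      obtain ⟨g, rfl⟩ := modC_surjective c
      exact DFunLike.congr_fun (hP.perfect (l.comp (modC G))) g
  have hT1 : (T : Subgroup (G ⧸ Subgroup.center G)) ≠ ⊥ := fun he => by
    have h1 := T.dvd_card_of_dvd_card (two_dvd_card hP)
    rw [he, Subgroup.card_bot] at h1
    omega
  have hTsq : ∀ c ∈ (T : Subgroup (G ⧸ Subgroup.center G)), c * c = 1 := fun c hc => by
    obtain ⟨k, hk⟩ := T.2 ⟨c, hc⟩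
    exact sq_eq_one_of_two_pow hP h hM k (congrArg Subtype.val hk)
  refine ⟨fun hcyc => hT1 ?_, fun hnor => hT1 ?_, fun t ht => ⟨⟨⟨fun a b => ?_⟩⟩, fun c hc => ?_⟩⟩
  · have hmin : (Nat.card (G ⧸ Subgroup.center G)).minFac = 2 := by
      refine le_antisymm (Nat.minFac_le_of_dvd le_rfl (two_dvd_card hP)) (Nat.minFac_prime ?_).two_le
      intro h1
      have := Nat.le_of_dvd Nat.one_pos (h1 ▸ two_dvd_card hP)
      omega
    have hcomp := IsCyclic.isComplement' hmin hcyc
    haveI : IsMulCommutative (T : Subgroup (G ⧸ Subgroup.center G)) := ⟨⟨fun a b => by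
      letI := IsCyclic.commGroup (α := (T : Subgroup (G ⧸ Subgroup.center G)))
      exact mul_comm a b⟩⟩
    set f := MonoidHom.transferSylow T (hcyc.normalizer_le_centralizer hmin) with hf
    have hker : f.ker = ⊤ := by
      rw [eq_top_iff, ← commutator_eq_top_of_lin hperfK]
      open scoped IsMulCommutative in exact Abelianization.commutator_subset_ker f
    rw [hker] at hcomp
    exact (Subgroup.isComplement'_top_left.1 hcomp)
  · -- a normal Sylow subgroup lifts to an elementary abelian subgroup moved by `P`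
    by_contra hne
    haveI := hnor
    set T' := (T : Subgroup (G ⧸ Subgroup.center G)) with hT'
    let E : Subgroup G :=
      { carrier := {e | e * e = 1 ∧ modC G e ∈ T'}
        one_mem' := ⟨one_mul 1, by rw [map_one]; exact one_mem _⟩
        mul_mem' := fun {e f} he hf => by
          refine ⟨?_, by rw [map_mul]; exact mul_mem he.2 hf.2⟩
          have hcomm : e * f = f * e := commute_lift hP h hM hf.1 (by
            have h1 := hTsq _ (mul_mem he.2 hf.2)
            have h2 := hTsq _ he.2
            have h3 := hTsq _ hf.2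
            calc modC G e * modC G f = (modC G e * modC G f)⁻¹ := eq_inv_of_mul_eq_one_left h1
              _ = modC G f * modC G e := by
                rw [mul_inv_rev, inv_eq_of_mul_eq_one_right h2, inv_eq_of_mul_eq_one_right h3])
          calc e * f * (e * f) = e * (f * e) * f := by group
            _ = e * (e * f) * f := by rw [hcomm]
            _ = (e * e) * (f * f) := by group
            _ = 1 := by rw [he.1, hf.1, one_mul]
        inv_mem' := fun {e} he => by
          rw [Set.mem_setOf_eq, inv_eq_of_mul_eq_one_right he.1]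
          exact he }
    have hEinj : ∀ e ∈ E, modC G e = 1 → e = 1 := fun e he h1 => by
      have hm : e ∈ H := (mem_H_iff hP).1 h1
      have h2 : orderOf (⟨e, hm⟩ : H) ∣ 2 := orderOf_dvd_of_pow_eq_one (Subtype.ext (by
        rw [Subgroup.coe_pow, pow_two, he.1]; rfl))
      rcases (Nat.dvd_prime Nat.prime_two).1 h2 with h3 | h3
      · exact congrArg Subtype.val (orderOf_eq_one_iff.1 h3)
      · exact absurd (h3 ▸ orderOf_dvd_natCard (⟨e, hm⟩ : H))
          (odd_card_center hP h hM).not_two_dvd_nat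
    let φ : E → T' := fun e => ⟨modC G e, e.2.2⟩
    have hφ : Function.Bijective φ := by
      refine ⟨fun e f hef => Subtype.ext ?_, fun c => ?_⟩
      · have h1 : modC G ((e : G)⁻¹ * f) = 1 := by
          rw [map_mul, map_inv, show modC G (e : G) = modC G (f : G) from congrArg Subtype.val hef,
            inv_mul_cancel]
        exact inv_mul_eq_one.1 (hEinj _ (mul_mem (inv_mem e.2) f.2) h1)
      · obtain ⟨y, hy⟩ := modC_surjective (c : G ⧸ Subgroup.center G)
        by_cases hc1 : (c : G ⧸ Subgroup.center G) = 1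
        · exact ⟨1, Subtype.ext (by rw [hc1]; exact map_one _)⟩
        have hyH : y ∉ H := fun hm => hc1 (hy ▸ (mem_H_iff hP).2 hm)
        obtain ⟨j, k, hj, -, hjk⟩ := exists_involution hP h hM hyH
          ((mem_H_iff hP).1 (by rw [map_mul, hy]; exact hTsq _ c.2))
        have hjc : modC G j = c := by
          rw [← hy, hjk, map_mul, (mem_H_iff hP).2 k.2, mul_one]
        exact ⟨⟨j, hj, hjc ▸ c.2⟩, Subtype.ext hjc⟩
    have hEcard : Nat.card E = Nat.card T' := Nat.card_congr (Equiv.ofBijective φ hφ)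
    -- the multiplicity of the trivial character
    obtain ⟨m, hm⟩ := exists_sum_res (H12.isCharacter_irr χ) E
    rw [← Finset.add_sum_erase _ _ (Finset.mem_univ (1 : E)), OneMemClass.coe_one, H12.irr_apply_one,
      h.degree_eq, Finset.sum_congr rfl (g := fun _ => (-1 : ℂ)) fun e he => apply_involution hP h hM
        e.2.1 fun hm' => Finset.ne_of_mem_erase he (Subtype.ext (hEinj _ e.2
          ((mem_H_iff hP).2 hm'))),
      Finset.sum_const, Finset.card_erase_of_mem (Finset.mem_univ _), Finset.card_univ,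
      ← Nat.card_eq_fintype_card, hEcard, nsmul_eq_mul,
      Nat.cast_sub (Nat.one_le_iff_ne_zero.2 Nat.card_pos.ne'), Nat.cast_one] at hm
    have hle : Nat.card T' + Nat.card T' * m = p - 2 + 1 := by
      have : ((Nat.card T' + Nat.card T' * m : ℕ) : ℂ) = ((p - 2 + 1 : ℕ) : ℂ) := by
        push_cast
        linear_combination -hm
      exact_mod_cast this
    -- the action of an element of order `p`
    set x := modC G u with hx
    have hxp : IsPGroup p (Subgroup.zpowers x) := by
      refine IsPGroup.of_card (n := 1) ?_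
      rw [Nat.card_zpowers, hx, modC_u_orderOf hP, pow_one]
    letI : MulAction (Subgroup.zpowers x) T' := MulAction.compHom T'
      ((MulAut.conjNormal : G ⧸ Subgroup.center G →* MulAut T').comp
        (Subgroup.zpowers x).subtype)
    have hfix : ∀ c : T', c ∈ MulAction.fixedPoints (Subgroup.zpowers x) T' ↔ c = 1 := by
      intro c
      constructor
      · intro hc
        by_contra hc1
        have h1 : MulAut.conjNormal x c = c := hc ⟨x, Subgroup.mem_zpowers x⟩
        have h2 : x * (c : G ⧸ Subgroup.center G) = c * x := by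
          have h3 := congrArg Subtype.val h1
          rw [MulAut.conjNormal_apply] at h3
          exact mul_inv_eq_iff_eq_mul.1 h3
        have h4 : orderOf (c : G ⧸ Subgroup.center G) = 2 :=
          orderOf_eq_two_iff'.2 ⟨hTsq _ c.2, fun h' => hc1 (Subtype.ext h')⟩
        have h5' : orderOf x ∣ 2 := orderOf_dvd_of_pow_eq_one (by
          rw [pow_two]; exact sq_of_commute hP h hM h4 h2)
        rw [hx, modC_u_orderOf hP] at h5'
        have := Nat.le_of_dvd two_pos h5'
        omega
      · rintro rfl g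
        exact map_one (MulAut.conjNormal (g : G ⧸ Subgroup.center G))
    have hmod := hxp.card_modEq_card_fixedPoints T'
    rw [show Nat.card (MulAction.fixedPoints (Subgroup.zpowers x) T') = 1 by
      rw [Nat.card_coe_set_eq, show MulAction.fixedPoints (Subgroup.zpowers x) T' = {1} from
        Set.ext fun c => by rw [hfix c, Set.mem_singleton_iff], Set.ncard_singleton]] at hmod
    have hT2 : 1 < Nat.card T' := (Subgroup.one_lt_card_iff_ne_bot T').2 hne
    have hdvd : p ∣ Nat.card T' - 1 := (Nat.modEq_iff_dvd' hT2.le).1 hmod.symm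
    have := Nat.le_of_dvd (by omega) hdvd
    omega
  · have ha := sq_of_commute hP h hM ht (Subgroup.mem_centralizer_singleton_iff.1 a.2)
    have hb := sq_of_commute hP h hM ht (Subgroup.mem_centralizer_singleton_iff.1 b.2)
    have hab := sq_of_commute hP h hM ht
      (Subgroup.mem_centralizer_singleton_iff.1 (mul_mem a.2 b.2))
    apply Subtype.ext
    calc (a : G ⧸ Subgroup.center G) * b = ((a : G ⧸ Subgroup.center G) * b)⁻¹ :=
          eq_inv_of_mul_eq_one_left hab
      _ = (b : G ⧸ Subgroup.center G) * a := by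
        rw [mul_inv_rev, inv_eq_of_mul_eq_one_right ha, inv_eq_of_mul_eq_one_right hb]
  · rw [pow_two]
    exact sq_of_commute hP h hM ht (Subgroup.mem_centralizer_singleton_iff.1 hc)

/-- The recognition. -/
theorem exists_iso_SL2 (hP : Perf D) (h : Good D χ θ ψ) (hM : IsPModular p M) :
    ∃ (m : ℕ) (F : Type) (_ : Field F) (_ : Fintype F), p = 2 ^ m + 1 ∧ Fintype.card F = 2 ^ m ∧
      Subgroup.center G = ⊥ ∧ Nonempty (G ≃* SL(2, F)) := by
  classical
  haveI : Fact (Nat.Prime 2) := ⟨Nat.prime_two⟩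
  haveI : Fintype (G ⧸ Subgroup.center G) := Fintype.ofFinite _
  have h5 := hP.five_lt
  obtain ⟨T⟩ : Nonempty (Sylow 2 (G ⧸ Subgroup.center G)) := inferInstance
  have hd := caData hP h hM T
  obtain ⟨F, iF, iFin, hF, ⟨e⟩⟩ := hd.exists_iso_PSL
  obtain ⟨m, hm⟩ := T.2.exists_card_eq
  set q := Fintype.card F with hq
  have hqm : q = 2 ^ m := hF.trans hm
  have hm0 : m ≠ 0 := fun h0 => hd.T_ne_bot (Subgroup.card_eq_one.1 (by rw [hm, h0, pow_zero]))
  have heven : 2 ∣ q := hqm ▸ dvd_pow_self 2 hm0
  have hq2 : 2 ≤ q := hqm ▸ (Nat.le_self_pow hm0 2)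
  have hgcd : Nat.gcd 2 (q - 1) = 1 := (Nat.prime_two.coprime_iff_not_dvd).2 (by omega)
  have hK : Nat.card (G ⧸ Subgroup.center G) = q * (q * q - 1) := by
    rw [Nat.card_congr e.toEquiv]
    have h1 := H37.card_PSL_fin (F := F) 2 (by norm_num)
    rw [Nat.card_eq_fintype_card (α := F), ← hq, hgcd, one_mul] at h1
    simp only [Fin.prod_univ_two, Fin.val_zero, pow_zero, Fin.val_one, pow_one] at h1
    refine Nat.eq_of_mul_eq_mul_left (by omega : 0 < q - 1) (h1.trans ?_)
    rw [pow_two, show q * q - q = q * (q - 1) by rw [Nat.mul_sub, mul_one]]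
    ring
  -- the involutions
  set N := (Finset.univ.filter fun c : G ⧸ Subgroup.center G => orderOf c = 2).card with hN
  have hinv : N * q = Nat.card (G ⧸ Subgroup.center G) := by
    have hTc : Nat.card T = q := hF.symm
    obtain ⟨t, ht⟩ := exists_prime_orderOf_dvd_card' 2 (two_dvd_card hP)
    set C := Subgroup.centralizer ({t} : Set (G ⧸ Subgroup.center G)) with hC
    have hC2 : IsPGroup 2 C := fun c => ⟨1, Subtype.ext (by
      rw [pow_one, Subgroup.coe_pow]; exact (hd.cent t ht).2 _ c.2)⟩
    obtain ⟨T₁, hT₁⟩ := hC2.exists_le_sylow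
    have htT₁ : t ∈ (T₁ : Subgroup (G ⧸ Subgroup.center G)) :=
      hT₁ (Subgroup.mem_centralizer_singleton_iff.2 rfl)
    have hd₁ := caData hP h hM T₁
    have hle : (T₁ : Subgroup (G ⧸ Subgroup.center G)) ≤ C := fun c hc => by
      rw [hC, Subgroup.mem_centralizer_singleton_iff]
      have e1 := hd₁.T_sq c hc
      have e2 := hd₁.T_sq t htT₁
      have e3 := hd₁.T_sq _ (mul_mem hc htT₁)
      rw [pow_two] at e1 e2 e3
      calc c * t = (c * t)⁻¹ := eq_inv_of_mul_eq_one_left e3
        _ = t * c := by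
          rw [mul_inv_rev, inv_eq_of_mul_eq_one_right e1, inv_eq_of_mul_eq_one_right e2]
    have hCc : Nat.card C = q := by
      rw [← le_antisymm hle hT₁, ← hTc, Sylow.card_eq_multiplicity, Sylow.card_eq_multiplicity]
    rw [← H65.card_conjugates_mul t, ← hC, hCc]
    congr 1
    rw [hN, ← Fintype.card_subtype, ← Nat.card_eq_fintype_card]
    refine Nat.card_congr (Equiv.subtypeEquivRight fun c => ⟨fun hc =>
      H67.se_isConj hd.stronglyEmbedded ht hc, fun hc => ?_⟩)
    obtain ⟨g, hg⟩ := isConj_iff.1 hc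
    rw [← hg, H20.orderOf_conj', ht]
  have hcount := card_involutions hP h hM
  rw [← hN] at hcount
  have hNval : N = q * q - 1 := Nat.eq_of_mul_eq_mul_right (by omega : 0 < q)
    (by rw [hinv, hK, mul_comm])
  rw [hK, hNval] at hcount
  have hpq : q + 1 = p := by
    obtain ⟨n, rfl⟩ : ∃ n, p = n + 2 := ⟨p - 2, by omega⟩
    rw [show n + 2 - 2 = n by omega] at hcount
    obtain ⟨N', hN'⟩ : ∃ N', q * q = N' + 1 := ⟨q * q - 1, by
      have := Nat.mul_le_mul hq2 hq2; omega⟩
    rw [hN', Nat.add_sub_cancel] at hcount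
    have hc : 2 * ((q : ℤ) * N') = ((n : ℤ) + 2) * ((n : ℤ) * n + N') := by exact_mod_cast hcount
    have hN'' : (q : ℤ) * q = N' + 1 := by exact_mod_cast hN'
    have hn : (4 : ℤ) ≤ n := by omega
    rcases lt_trichotomy (q : ℤ) (n + 1) with h1 | h1 | h1
    · exfalso
      have e1 : (q : ℤ) ≤ n := by omega
      have e2 : (q : ℤ) * q ≤ (n : ℤ) * n := mul_le_mul e1 e1 (by positivity) (by positivity)
      nlinarith [mul_le_mul_of_nonneg_left e1 (show (0 : ℤ) ≤ 2 * (N' : ℤ) by positivity)]
    · omega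
    · exfalso
      have e1 : (n : ℤ) + 2 ≤ q := by omega
      have e2 : ((n : ℤ) + 2) * ((n : ℤ) + 2) ≤ (q : ℤ) * q :=
        mul_le_mul e1 e1 (by positivity) (by positivity)
      nlinarith [mul_le_mul_of_nonneg_left e1 (show (0 : ℤ) ≤ 2 * (N' : ℤ) by positivity)]
  have hp2m : p = 2 ^ m + 1 := by omega
  -- `SL(2, F)` has trivial centre
  have hZ : Subgroup.center SL(2, F) = ⊥ := by
    refine Subgroup.card_eq_one.1 ?_
    rw [H37.card_center_SL, Fintype.card_fin, Nat.card_eq_fintype_card, ← hq, hgcd]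
  let π₂ : SL(2, F) ≃* Matrix.ProjectiveSpecialLinearGroup (Fin 2) F :=
    MulEquiv.ofBijective (QuotientGroup.mk' (Subgroup.center SL(2, F)))
      ⟨(MonoidHom.ker_eq_bot_iff _).1 (by rw [QuotientGroup.ker_mk', hZ]),
        QuotientGroup.mk'_surjective _⟩
  let σ : G →* SL(2, F) := (e.trans π₂.symm).toMonoidHom.comp (modC G)
  have hker : σ.ker = Subgroup.center G := by
    ext g
    rw [MonoidHom.mem_ker]
    show (e.trans π₂.symm) (modC G g) = 1 ↔ _
    rw [MulEquiv.map_eq_one_iff, modC_eq_one_iff]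
  have hstem : IsStemExtension σ := ⟨(e.trans π₂.symm).surjective.comp modC_surjective, hker.le, by
    rw [commutator_eq_top_of_lin hP.perfect]; exact le_top⟩
  obtain ⟨r, hr⟩ := CharP.exists F
  haveI : Fact r.Prime := ⟨CharP.char_is_prime F r⟩
  have hbot : σ.ker = ⊥ := H39.stem_ker_eq_bot r (by omega) (by omega) hstem
  refine ⟨m, F, iF, iFin, hp2m, hqm, hker ▸ hbot, ⟨MulEquiv.ofBijective σ
    ⟨(MonoidHom.ker_eq_bot_iff _).1 hbot, hstem.1⟩⟩⟩

end H15.PSubTwo
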